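import Cfsg.Agent.Lib.Dickson.Setup
import Mathlib.GroupTheory.Coset.Card
import Mathlib.Data.ZMod.Basic

/-!
The upper triangular subgroup `borel H`, the additive group `transl H` of upper translations,
the diagonal character and the torus element.
-/

namespace Cfsg.Agent.Lib.Dickson

open Matrix Cfsg.Agent.Lib.Linear
open Cfsg.Agent.Lib.PLocal.SLTwo (up lo up_add lo_add up_zero lo_zero val_mul)

variable {F : Type*} [Field F]

local notation "SL2" => Matrix.SpecialLinearGroup (Fin 2) F
local notation "M2" => Matrix (Fin 2) (Fin 2) F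

variable (H : Subgroup (Matrix.SpecialLinearGroup (Fin 2) F))

/-- The parameters of upper transvections in `H`. -/
def transl : AddSubgroup F where
  carrier := {a | up a ∈ H}
  zero_mem' := by simp [up_zero]
  add_mem' {a b} ha hb := by
    simp only [Set.mem_setOf_eq] at *
    rw [up_add]; exact H.mul_mem ha hb
  neg_mem' {a} ha := by
    simp only [Set.mem_setOf_eq] at *
    rw [← up_inv]; exact H.inv_mem ha

theorem mem_transl {a : F} : a ∈ transl H ↔ up a ∈ H := Iff.rfl

/-- The upper triangular subgroup of `H`. -/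
def borel : Subgroup H where
  carrier := {g | ((g : Matrix.SpecialLinearGroup (Fin 2) F) : Matrix (Fin 2) (Fin 2) F) 1 0 = 0}
  one_mem' := by simp
  mul_mem' {g h} hg hh := by
    simp only [Set.mem_setOf_eq] at *
    simp [Matrix.mul_apply, Fin.sum_univ_two, hg, hh]
  inv_mem' {g} hg := by
    simp only [Set.mem_setOf_eq] at *
    simp [Matrix.SpecialLinearGroup.coe_inv, Matrix.adjugate_fin_two, hg]

theorem mem_borel {g : H} : g ∈ borel H ↔ ((g : SL2) : M2) 1 0 = 0 := Iff.rfl

variable {H}

theorem borel_diag {g : H} (hg : g ∈ borel H) :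
    ((g : SL2) : M2) 0 0 * ((g : SL2) : M2) 1 1 = 1 := by
  have := sl2_det (g : SL2)
  rw [(mem_borel H).1 hg, mul_zero, sub_zero] at this
  exact this

variable (H) in
/-- The diagonal character of the upper triangular subgroup. -/
def diagHom : borel H →* Fˣ where
  toFun g :=
    ⟨(((g : H) : Matrix.SpecialLinearGroup (Fin 2) F) : Matrix (Fin 2) (Fin 2) F) 0 0,
     (((g : H) : Matrix.SpecialLinearGroup (Fin 2) F) : Matrix (Fin 2) (Fin 2) F) 1 1,
     borel_diag g.2, by rw [mul_comm]; exact borel_diag g.2⟩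
  map_one' := by ext; simp
  map_mul' g h := by
    ext
    have := (mem_borel H).1 h.2
    simp [Matrix.mul_apply, Fin.sum_univ_two, this]

theorem coe_diagHom (g : borel H) :
    ((diagHom H g : Fˣ) : F) = (((g : H) : SL2) : M2) 0 0 := rfl

theorem eq_up_of_diag_eq_one {g : SL2} (h10 : (g : M2) 1 0 = 0) (h00 : (g : M2) 0 0 = 1) :
    g = up ((g : M2) 0 1) := by
  have hd := sl2_det g
  rw [h10, h00, mul_zero, sub_zero, one_mul] at hd
  apply Subtype.ext
  rw [coe_up]
  ext i j
  fin_cases i <;> fin_cases j <;> simp [h10, h00, hd]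

theorem card_ker_diagHom : Nat.card (diagHom H).ker = Nat.card (transl H) := by
  refine Nat.card_congr
    { toFun := fun g => ⟨((((g : borel H) : H) : SL2) : M2) 0 1, ?_⟩
      invFun := fun a => ⟨⟨⟨up (a : F), a.2⟩, by rw [mem_borel]; simp [coe_up]⟩, ?_⟩
      left_inv := ?_
      right_inv := ?_ }
  · have h1 := g.2
    rw [MonoidHom.mem_ker, Units.ext_iff, coe_diagHom, Units.val_one] at h1
    rw [mem_transl, ← eq_up_of_diag_eq_one (g.1.2) h1]
    exact (g.1.1).2
  · rw [MonoidHom.mem_ker, Units.ext_iff, coe_diagHom, Units.val_one]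
    simp [coe_up]
  · intro g
    have h1 := g.2
    rw [MonoidHom.mem_ker, Units.ext_iff, coe_diagHom, Units.val_one] at h1
    exact Subtype.ext (Subtype.ext (Subtype.ext (eq_up_of_diag_eq_one g.1.2 h1).symm))
  · intro a
    apply Subtype.ext
    simp [coe_up]

theorem card_borel : Nat.card (borel H) = Nat.card (transl H) * Nat.card (diagHom H).range := by
  rw [← card_ker_diagHom, ← Subgroup.index_ker, Subgroup.card_mul_index]

section Hyp

variable [Finite F] (p : ℕ) [Fact p.Prime] [CharP F p]

/-- The normalised hypothesis of Dickson's lemma. -/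
structure Normalised (H : Subgroup (Matrix.SpecialLinearGroup (Fin 2) F)) : Prop where
  neg_mem : negI ∈ H
  up_mem : up 1 ∈ H
  exists_lo : ∃ l, l ≠ 0 ∧ lo l ∈ H
  conj_unip : ∀ x ∈ H, x ^ p = 1 → ∃ h ∈ H, ∃ a, h * x * h⁻¹ = up a

variable {p}

/-- The element `up 1` of `H`. -/
def upOne (hS : Normalised p H) : H := ⟨up 1, hS.up_mem⟩

theorem upOne_notMem (hS : Normalised p H) : upOne hS ∉ scalarSet H := by
  rintro (h | h)
  · have := congrArg (fun g : SL2 => (g : M2) 0 1) h
    simp [upOne, coe_up] at this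
  · have := congrArg (fun g : SL2 => (g : M2) 0 1) h
    simp [upOne, coe_up, coe_negI] at this

theorem tr_upOne (hS : Normalised p H) : tr (upOne hS) ^ 2 = 4 := by
  simp [tr, upOne, coe_up, Matrix.trace_fin_two]
  norm_num

theorem mem_cen_upOne_iff (hS : Normalised p H) {g : H} :
    g ∈ cen (upOne hS) ↔
      ((g : SL2) : M2) 1 0 = 0 ∧ (((g : SL2) : M2) 0 0 = 1 ∨ ((g : SL2) : M2) 0 0 = -1) := by
  rw [mem_cen_iff]
  constructor
  · intro h
    have h' := congrArg (fun z : SL2 => (z : M2)) h
    have e00 := congrFun (congrFun h' 0) 0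
    have e01 := congrFun (congrFun h' 0) 1
    simp [upOne, coe_up, Matrix.mul_apply, Fin.sum_univ_two] at e00 e01
    have h10 : ((g : SL2) : M2) 1 0 = 0 := by linear_combination e00
    have h11 : ((g : SL2) : M2) 0 0 = ((g : SL2) : M2) 1 1 := by linear_combination e01
    refine ⟨h10, ?_⟩
    have hd := sl2_det (g : SL2)
    rw [h10, mul_zero, sub_zero, ← h11] at hd
    exact mul_self_eq_one_iff.1 hd
  · rintro ⟨h10, h00⟩
    have hd := sl2_det (g : SL2)
    rw [h10, mul_zero, sub_zero] at hd
    have h11 : ((g : SL2) : M2) 1 1 = ((g : SL2) : M2) 0 0 := by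
      rcases h00 with e | e <;> rw [e] at hd ⊢
      · linear_combination hd
      · linear_combination (-1) * hd
    apply Subtype.ext
    ext i j
    fin_cases i <;> fin_cases j <;>
      simp [upOne, coe_up, Matrix.mul_apply, Fin.sum_univ_two, h10, h11] <;> ring

theorem cen_upOne_le_borel (hS : Normalised p H) : cen (upOne hS) ≤ borel H :=
  fun _ hg => (mem_borel H).2 ((mem_cen_upOne_iff hS).1 hg).1

theorem normalizer_cen_upOne (hS : Normalised p H) :
    Subgroup.normalizer (cen (upOne hS) : Set H) = borel H := by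
  ext h
  constructor
  · intro hh
    have h1 := (Subgroup.mem_normalizer_iff.1 hh _).1 (self_mem_cen (upOne hS))
    obtain ⟨k10, k00⟩ := (mem_cen_upOne_iff hS).1 h1
    set k : H := h * upOne hS * h⁻¹ with hk
    have heq : (h : SL2) * up 1 = (k : SL2) * (h : SL2) := by
      simp [hk, upOne, mul_assoc]
    have h' := congrArg (fun z : SL2 => (z : M2)) heq
    have e00 := congrFun (congrFun h' 0) 0
    have e10 := congrFun (congrFun h' 1) 0
    have e11 := congrFun (congrFun h' 1) 1
    simp [coe_up, Matrix.mul_apply, Fin.sum_univ_two, k10] at e00 e10 e11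
    rw [mem_borel]
    have hd := sl2_det (k : SL2)
    rw [k10, mul_zero, sub_zero] at hd
    rcases k00 with e | e <;> rw [e] at hd e00
    · have : ((k : SL2) : M2) 1 1 = 1 := by linear_combination hd
      rw [this] at e11
      linear_combination e11
    · by_contra hne
      have h1' : ((k : SL2) : M2) 1 1 = -1 := by linear_combination (-1) * hd
      rw [h1'] at e10
      have h2F : (2 : F) = 0 := by
        have : (2 : F) * ((h : SL2) : M2) 1 0 = 0 := by linear_combination e10
        exact (mul_eq_zero.1 this).resolve_right hne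
      rw [h1'] at e11
      apply hne
      linear_combination e11 - ((h : SL2) : M2) 1 1 * h2F
  · intro hh
    rw [Subgroup.mem_normalizer_iff]
    have key : ∀ h : H, h ∈ borel H → ∀ g ∈ cen (upOne hS), h * g * h⁻¹ ∈ cen (upOne hS) := by
      intro h hh g hg
      obtain ⟨g10, g00⟩ := (mem_cen_upOne_iff hS).1 hg
      rw [mem_cen_upOne_iff]
      have hgb : h * g * h⁻¹ ∈ borel H :=
        mul_mem (mul_mem hh ((mem_borel H).2 g10)) (inv_mem hh)
      refine ⟨(mem_borel H).1 hgb, ?_⟩
      have hconj : diagHom H ⟨_, hgb⟩ = diagHom H ⟨g, (mem_borel H).2 g10⟩ := by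
        rw [show (⟨_, hgb⟩ : borel H) = ⟨h, hh⟩ * ⟨g, (mem_borel H).2 g10⟩ * ⟨h, hh⟩⁻¹ from rfl,
          map_mul, map_mul, map_inv, mul_comm (diagHom H ⟨h, hh⟩), mul_inv_cancel_right]
      have := congrArg Units.val hconj
      rw [coe_diagHom, coe_diagHom] at this
      simp only at this
      rw [this]
      exact g00
    intro g
    refine ⟨key h hh g, fun hg => ?_⟩
    have := key h⁻¹ (inv_mem hh) _ hg
    simpa [mul_assoc] using this

theorem card_cen_upOne (hS : Normalised p H) (h2 : (2 : F) ≠ 0) :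
    Nat.card (cen (upOne hS)) = 2 * Nat.card (transl H) := by
  let f : transl H × Bool → cen (upOne hS) := fun x =>
    ⟨⟨if x.2 then up (x.1 : F) else negI * up (x.1 : F), by
        split
        · exact x.1.2
        · exact H.mul_mem hS.neg_mem x.1.2⟩, by
      rw [mem_cen_upOne_iff]
      split <;> simp [coe_up, coe_negI]⟩
  have hf : Function.Bijective f := by
    constructor
    · rintro ⟨a, s⟩ ⟨b, t⟩ h
      have h' := congrArg (fun z : cen (upOne hS) => (((z : H) : SL2) : M2)) h
      have e00 := congrFun (congrFun h' 0) 0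
      have e01 := congrFun (congrFun h' 0) 1
      have hne : (1 : F) ≠ -1 := fun e => h2 (by linear_combination e)
      rcases s <;> rcases t <;> simp [f, coe_up, coe_negI, hne, hne.symm] at e00 e01 ⊢ <;>
        exact e01
    · rintro ⟨g, hg⟩
      obtain ⟨g10, g00⟩ := (mem_cen_upOne_iff hS).1 hg
      rcases g00 with g00 | g00
      · have := eq_up_of_diag_eq_one g10 g00
        refine ⟨(⟨_, by rw [mem_transl, ← this]; exact g.2⟩, true), ?_⟩
        exact Subtype.ext (Subtype.ext (by simpa [f] using this.symm))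
      · have h' := eq_up_of_diag_eq_one (g := negI * (g : SL2))
          (by simp [coe_negI, g10]) (by simp [coe_negI, g00])
        refine ⟨(⟨_, by rw [mem_transl, ← h']; exact H.mul_mem hS.neg_mem g.2⟩, false), ?_⟩
        refine Subtype.ext (Subtype.ext ?_)
        simp only [f, Bool.false_eq_true, if_false]
        rw [← h', ← mul_assoc, negI_mul_self, one_mul]
  rw [← Nat.card_eq_of_bijective f hf, Nat.card_prod, Nat.card_eq_fintype_card (α := Bool),
    Fintype.card_bool, mul_comm]

theorem exists_card_transl (hS : Normalised p H) :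
    ∃ k, 1 ≤ k ∧ Nat.card (transl H) = p ^ k := by
  have := Fintype.ofFinite F
  obtain ⟨n, _, hn⟩ := exists_card_eq_pow (F := F) p
  have hd : Nat.card (transl H) ∣ p ^ n := by
    rw [← hn, ← Nat.card_eq_fintype_card]
    exact AddSubgroup.card_addSubgroup_dvd_card _
  obtain ⟨k, -, hk⟩ := (Nat.dvd_prime_pow Fact.out).1 hd
  refine ⟨k, ?_, hk⟩
  rcases Nat.eq_zero_or_pos k with rfl | hk0
  · exfalso
    rw [pow_zero, Nat.card_eq_one_iff_unique] at hk
    have := hk.1.elim ⟨1, (mem_transl H).2 hS.up_mem⟩ ⟨0, zero_mem _⟩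
    simpa using congrArg Subtype.val this
  · exact hk0

theorem even_card_range (hS : Normalised p H) (h2 : (2 : F) ≠ 0) :
    2 ∣ Nat.card (diagHom H).range := by
  have hmem : (-1 : Fˣ) ∈ (diagHom H).range := by
    refine ⟨⟨⟨negI, hS.neg_mem⟩, by rw [mem_borel]; simp [coe_negI]⟩, ?_⟩
    ext
    rw [coe_diagHom]
    simp [coe_negI]
  have ho : orderOf (-1 : Fˣ) = 2 := by
    refine orderOf_eq_prime (by simp) fun h => h2 ?_
    have := congrArg Units.val h
    simp at this
    linear_combination (-1) * this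
  have := Subgroup.orderOf_dvd_natCard _ hmem
  rwa [ho] at this

theorem sq_mem_transl (hS : Normalised p H) {r : Fˣ} (hr : r ∈ (diagHom H).range) :
    (r : F) ^ 2 ∈ transl H := by
  obtain ⟨g, rfl⟩ := hr
  have hd := borel_diag g.2
  rw [mem_transl]
  have : up ((diagHom H g : F) ^ 2) = ((g : H) : SL2) * up 1 * ((g : H) : SL2)⁻¹ := by
    rw [eq_mul_inv_iff_mul_eq]
    apply Subtype.ext
    ext i j
    have h10 := (mem_borel H).1 g.2
    fin_cases i <;> fin_cases j <;>
      simp [coe_diagHom, coe_up, Matrix.mul_apply, Fin.sum_univ_two, h10]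
    linear_combination (((g : H) : SL2) : M2) 0 0 * hd
  rw [this]
  exact H.mul_mem (H.mul_mem (g : H).2 hS.up_mem) (H.inv_mem (g : H).2)

theorem card_range_le (hS : Normalised p H) :
    Nat.card (diagHom H).range + 2 ≤ 2 * Nat.card (transl H) := by
  classical
  have := Fintype.ofFinite F
  let A0 := {a : transl H // a ≠ 0}
  let root : F → F := fun s => if h : ∃ r, r ^ 2 = s then h.choose else 0
  let g : (diagHom H).range → A0 × Bool := fun r =>
    (⟨⟨((r : Fˣ) : F) ^ 2, sq_mem_transl hS r.2⟩, fun h => by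
        have := congrArg Subtype.val h
        simp at this⟩, decide (((r : Fˣ) : F) = root (((r : Fˣ) : F) ^ 2)))
  have hg : Function.Injective g := by
    rintro ⟨r, hr⟩ ⟨s, hs⟩ h
    simp only [g, Prod.mk.injEq, Subtype.mk.injEq, decide_eq_decide] at h
    obtain ⟨h1, h3⟩ := h
    replace h1 : (r : F) ^ 2 = (s : F) ^ 2 := congrArg (fun z : A0 => ((z : transl H) : F)) h1
    rcases sq_eq_sq_iff_eq_or_eq_neg.1 h1 with e | e
    · exact Subtype.ext (Units.ext e)
    · apply Subtype.ext
      apply Units.ext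
      show (r : F) = (s : F)
      have hroot : root ((s : F) ^ 2) = s ∨ root ((s : F) ^ 2) = -(s : F) := by
        have hex : ∃ x, x ^ 2 = (s : F) ^ 2 := ⟨_, rfl⟩
        simp only [root, dif_pos hex]
        exact sq_eq_sq_iff_eq_or_eq_neg.1 hex.choose_spec
      rw [h1] at h3
      rcases hroot with hh | hh <;> rw [hh] at h3
      · exact h3.2 rfl
      · exact (h3.1 e).symm ▸ e
  have := Nat.card_le_card_of_injective g hg
  rw [Nat.card_prod, Nat.card_eq_fintype_card (α := Bool), Fintype.card_bool] at this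
  have hA : Nat.card A0 + 1 = Nat.card (transl H) := by
    rw [← Nat.card_congr (Equiv.optionSubtypeNe (0 : transl H)), Finite.card_option]
  omega

/-- A torus element when the diagonal character has image of order greater than two. -/
theorem exists_torus (h2 : (2 : F) ≠ 0) (he : 2 < Nat.card (diagHom H).range) :
    ∃ x : H, tr x ^ 2 ≠ 4 ∧ Nat.card (cen x) = Nat.card (diagHom H).range := by
  obtain ⟨δ, hδ⟩ := IsCyclic.exists_generator (α := (diagHom H).range)
  obtain ⟨g, hg⟩ := δ.2
  have hδ2 : ((δ : Fˣ) : F) ^ 2 ≠ 1 := by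
    intro h
    have h1 : δ ^ 2 = 1 := Subtype.ext (Units.ext (by simpa using h))
    have h2' := orderOf_dvd_of_pow_eq_one h1
    rw [orderOf_eq_card_of_forall_mem_zpowers hδ] at h2'
    have := Nat.le_of_dvd (by norm_num) h2'
    omega
  have hd := borel_diag g.2
  have h00 : (((g : H) : SL2) : M2) 0 0 = ((δ : Fˣ) : F) := by rw [← coe_diagHom, hg]
  rw [h00] at hd
  have ht : tr (g : H) ^ 2 ≠ 4 := by
    intro h4
    apply hδ2
    unfold tr at h4
    rw [Matrix.trace_fin_two, h00] at h4
    have : ((δ : Fˣ) : F) - (((g : H) : SL2) : M2) 1 1 = 0 := by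
      refine sq_eq_zero_iff.1 ?_
      linear_combination h4 - 4 * hd
    linear_combination hd + ((δ : Fˣ) : F) * this
  refine ⟨g, ht, ?_⟩
  have hns := nonScalar_of_notMem (notMem_of_tr ht)
  have hle : cen (g : H) ≤ borel H := by
    intro y hy
    obtain ⟨a, b, hab⟩ := exists_eq_add_smul_of_commute hns (mem_cen_iff.1 hy)
    rw [mem_borel, hab]
    simp [(mem_borel H).1 g.2]
  let f : cen (g : H) →* (diagHom H).range :=
    ((diagHom H).comp (Subgroup.inclusion hle)).codRestrict _ fun y => ⟨_, rfl⟩
  have hf : Function.Bijective f := by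
    constructor
    · rw [injective_iff_map_eq_one]
      intro y hy
      have hy1 : (((y : H) : SL2) : M2) 0 0 = 1 :=
        congrArg (fun z : (diagHom H).range => ((z : Fˣ) : F)) hy
      have h10 := (mem_borel H).1 (hle y.2)
      have hu := eq_up_of_diag_eq_one h10 hy1
      have hcomm := mem_cen_iff.1 y.2
      rw [hu] at hcomm
      have e01 := congrFun (congrFun (congrArg (fun z : SL2 => (z : M2)) hcomm) 0) 1
      simp [coe_up, Matrix.mul_apply, Fin.sum_univ_two, h00] at e01
      apply Subtype.ext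
      apply Subtype.ext
      rw [hu]
      have hne : (((g : H) : SL2) : M2) 1 1 - ((δ : Fˣ) : F) ≠ 0 := fun e => hδ2 (by
        linear_combination hd - ((δ : Fˣ) : F) * e)
      have : (((y : H) : SL2) : M2) 0 1 * ((((g : H) : SL2) : M2) 1 1 - ((δ : Fˣ) : F)) = 0 := by
        linear_combination e01
      rw [(mul_eq_zero.1 this).resolve_right hne, up_zero]
      rfl
    · intro r
      obtain ⟨k, hk⟩ := hδ r
      refine ⟨⟨_, self_mem_cen _⟩ ^ k, ?_⟩
      rw [map_zpow, ← hk]
      congr 1
      exact Subtype.ext hg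
  exact Nat.card_eq_of_bijective f hf

end Hyp

end Cfsg.Agent.Lib.Dickson
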