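import Cfsg.Agent.Lib.Linear.SL2
import Cfsg.Agent.Lib.PLocal.SLTwo
import Mathlib.Algebra.CharP.Basic
import Mathlib.Algebra.CharP.Lemmas

/-!
Matrix facts for Dickson's lemma: transvections, scaling, copies of `SL(2,p)` from a pair of
transvections, the squaring trick and `p`-elements of `SL(2,F)`.
-/

namespace Cfsg.Agent.Lib.Dickson

open Matrix Cfsg.Agent.Lib.Linear
open Cfsg.Agent.Lib.PLocal.SLTwo (up lo up_add lo_add up_zero lo_zero val_mul closure_pair_eq_top)

variable {F : Type*} [Field F]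

local notation "SL2" => Matrix.SpecialLinearGroup (Fin 2) F
local notation "M2" => Matrix (Fin 2) (Fin 2) F

theorem coe_up (x : F) : ((up x : SL2) : M2) = !![1, x; 0, 1] := rfl
theorem coe_lo (x : F) : ((lo x : SL2) : M2) = !![1, 0; x, 1] := rfl

theorem up_inv (x : F) : (up x : SL2)⁻¹ = up (-x) :=
  inv_eq_of_mul_eq_one_right (by rw [← up_add, add_neg_cancel, up_zero])

theorem lo_inv (x : F) : (lo x : SL2)⁻¹ = lo (-x) :=
  inv_eq_of_mul_eq_one_right (by rw [← lo_add, add_neg_cancel, lo_zero])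

theorem up_injective : Function.Injective (up (F := F)) := fun a b h => by
  simpa [coe_up] using congrArg (fun M : SL2 => (M : M2) 0 1) h

theorem lo_injective : Function.Injective (lo (F := F)) := fun a b h => by
  simpa [coe_lo] using congrArg (fun M : SL2 => (M : M2) 1 0) h

theorem up_nsmul (x : F) (n : ℕ) : up ((n : F) * x) = (up x : SL2) ^ n := by
  induction n with
  | zero => simp [up_zero]
  | succ n ih => rw [Nat.cast_succ, add_mul, one_mul, up_add, ih, pow_succ]

theorem lo_nsmul (x : F) (n : ℕ) : lo ((n : F) * x) = (lo x : SL2) ^ n := by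
  induction n with
  | zero => simp [lo_zero]
  | succ n ih => rw [Nat.cast_succ, add_mul, one_mul, lo_add, ih, pow_succ]

/-- The central element `-1`. -/
def negI : Matrix.SpecialLinearGroup (Fin 2) F :=
  ⟨!![-1, 0; 0, -1], by simp [Matrix.det_fin_two]⟩

theorem coe_negI : ((negI : SL2) : M2) = -1 := by
  ext i j
  fin_cases i <;> fin_cases j <;> simp [negI]

theorem negI_mul_self : (negI : SL2) * negI = 1 := by
  apply Subtype.ext
  rw [val_mul, coe_negI, Matrix.SpecialLinearGroup.coe_one, neg_mul_neg, one_mul]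

theorem negI_comm (g : SL2) : negI * g = g * negI := by
  apply Subtype.ext
  rw [val_mul, val_mul, coe_negI, neg_one_mul, mul_neg_one]

/-- Conjugation by `diag(a,1)`. -/
def scaleHom (a : F) (ha : a ≠ 0) :
    Matrix.SpecialLinearGroup (Fin 2) F →* Matrix.SpecialLinearGroup (Fin 2) F where
  toFun M := ⟨!![(M : M2) 0 0, a * (M : M2) 0 1; (M : M2) 1 0 / a, (M : M2) 1 1], by
    have := sl2_det M
    rw [Matrix.det_fin_two_of]
    field_simp
    linear_combination this⟩
  map_one' := by
    apply Subtype.ext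
    simp [Matrix.one_fin_two]
  map_mul' M N := by
    apply Subtype.ext
    show (!![((M * N : SL2) : M2) 0 0, a * ((M * N : SL2) : M2) 0 1;
      ((M * N : SL2) : M2) 1 0 / a, ((M * N : SL2) : M2) 1 1] : M2) =
      !![(M : M2) 0 0, a * (M : M2) 0 1; (M : M2) 1 0 / a, (M : M2) 1 1] *
      !![(N : M2) 0 0, a * (N : M2) 0 1; (N : M2) 1 0 / a, (N : M2) 1 1]
    ext i j
    fin_cases i <;> fin_cases j <;>
      simp [Matrix.mul_apply, Fin.sum_univ_two] <;> field_simp <;> ring

theorem coe_scaleHom (a : F) (ha : a ≠ 0) (M : SL2) : ((scaleHom a ha M : SL2) : M2) =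
    !![(M : M2) 0 0, a * (M : M2) 0 1; (M : M2) 1 0 / a, (M : M2) 1 1] := rfl

theorem scaleHom_injective (a : F) (ha : a ≠ 0) : Function.Injective (scaleHom a ha) := by
  intro M N h
  have h' := congrArg (fun X : SL2 => (X : M2)) h
  apply Subtype.ext
  ext i j
  have e := congrFun (congrFun h' i) j
  fin_cases i <;> fin_cases j <;> simpa [coe_scaleHom, ha] using e

theorem scaleHom_up (a : F) (ha : a ≠ 0) (x : F) : scaleHom a ha (up x) = up (a * x) := by
  apply Subtype.ext
  rw [coe_scaleHom]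
  simp [coe_up]

theorem scaleHom_lo (a : F) (ha : a ≠ 0) (x : F) : scaleHom a ha (lo x) = lo (x / a) := by
  apply Subtype.ext
  rw [coe_scaleHom]
  simp [coe_lo]

variable (p : ℕ) [Fact p.Prime]

/-- `H` contains a copy of `SL(2,p)`. -/
def HasSL2Copy (H : Subgroup (Matrix.SpecialLinearGroup (Fin 2) F)) : Prop :=
  ∃ ψ : Matrix.SpecialLinearGroup (Fin 2) (ZMod p) →* Matrix.SpecialLinearGroup (Fin 2) F,
    Function.Injective ψ ∧ ψ.range ≤ H

variable {p}

theorem HasSL2Copy.map {H : Subgroup SL2} (φ : SL2 →* SL2) (hφ : Function.Injective φ)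
    (h : HasSL2Copy p (H.comap φ)) : HasSL2Copy p H := by
  obtain ⟨ψ, hψ, hle⟩ := h
  refine ⟨φ.comp ψ, hφ.comp hψ, ?_⟩
  rintro _ ⟨x, rfl⟩
  exact hle ⟨x, rfl⟩

variable [CharP F p]

/-- A pair of transvections whose product of parameters lies in the prime field. -/
theorem hasSL2Copy_of_pair {H : Subgroup SL2} {a c : F} (μ : ZMod p) (hμ : μ ≠ 0)
    (hu : up a ∈ H) (hl : lo c ∈ H) (hac : a * c = ZMod.castHom dvd_rfl F μ) :
    HasSL2Copy p H := by
  set f : ZMod p →+* F := ZMod.castHom dvd_rfl F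
  have hfμ : f μ ≠ 0 := fun h => hμ (f.injective (by rw [h, map_zero]))
  have ha : a ≠ 0 := fun h => hfμ (by rw [← hac, h, zero_mul])
  let ψ : Matrix.SpecialLinearGroup (Fin 2) (ZMod p) →* SL2 :=
    (scaleHom a ha).comp (Matrix.SpecialLinearGroup.map f)
  have hinj : Function.Injective ψ := by
    refine (scaleHom_injective a ha).comp ?_
    intro M N h
    have h' := congrArg (fun X : SL2 => (X : M2)) h
    apply Subtype.ext
    ext i j
    exact f.injective (congrFun (congrFun h' i) j)
  refine ⟨ψ, hinj, ?_⟩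
  rw [MonoidHom.range_eq_map, ← closure_pair_eq_top (p := p), MonoidHom.map_closure,
    Subgroup.closure_le]
  rintro _ ⟨x, hx, rfl⟩
  have hmap_up : Matrix.SpecialLinearGroup.map f (up 1) = up (1 : F) := by
    apply Subtype.ext
    show f.mapMatrix (up (1 : ZMod p)).1 = (up (1 : F)).1
    ext i j
    fin_cases i <;> fin_cases j <;> simp [up]
  have hmap_lo : Matrix.SpecialLinearGroup.map f (lo 1) = lo (1 : F) := by
    apply Subtype.ext
    show f.mapMatrix (lo (1 : ZMod p)).1 = (lo (1 : F)).1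
    ext i j
    fin_cases i <;> fin_cases j <;> simp [lo]
  rcases hx with rfl | rfl
  · show scaleHom a ha _ ∈ H
    rw [hmap_up, scaleHom_up, mul_one]
    exact hu
  · show scaleHom a ha _ ∈ H
    rw [hmap_lo, scaleHom_lo]
    have : (((μ⁻¹).val : ℕ) : F) * c = 1 / a := by
      have h1 : (((μ⁻¹).val : ℕ) : F) = f μ⁻¹ := by
        rw [← map_natCast f, ZMod.natCast_zmod_val]
      rw [eq_div_iff ha, h1, mul_assoc, mul_comm c a, hac, ← map_mul, inv_mul_cancel₀ hμ, map_one]
    rw [← this, lo_nsmul]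
    exact H.pow_mem hl _

/-- The conjugates `up 1` and `lo l * up 1 * lo (-l)` form a pair with parameter `-l ^ 2`. -/
theorem square_trick {H : Subgroup SL2} {l : F} (hl0 : l ≠ 0) (hu : up 1 ∈ H) (hl : lo l ∈ H) :
    up 1 ∈ H.comap (MulAut.conj (up l⁻¹ : SL2)).toMonoidHom ∧
      lo (-l ^ 2) ∈ H.comap (MulAut.conj (up l⁻¹ : SL2)).toMonoidHom := by
  simp only [Subgroup.mem_comap, MulEquiv.coe_toMonoidHom, MulAut.conj_apply]
  constructor
  · rw [up_inv, ← up_add, ← up_add, add_comm l⁻¹ 1, add_neg_cancel_right]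
    exact hu
  · have : (up l⁻¹ : SL2) * lo (-l ^ 2) * (up l⁻¹)⁻¹ = lo l * up 1 * lo (-l) := by
      rw [up_inv]
      apply Subtype.ext
      simp only [val_mul]
      ext i j
      fin_cases i <;> fin_cases j <;>
        simp [coe_up, coe_lo, Matrix.mul_apply, Fin.sum_univ_two] <;> field_simp <;> ring
    rw [this, ← lo_inv]
    exact H.mul_mem (H.mul_mem hl hu) (H.inv_mem hl)

theorem eq_one_or_negI_of_smul {g : SL2} {a : F} (h : (g : M2) = a • 1) :
    g = 1 ∨ g = negI := by
  have hd := sl2_det g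
  rw [h] at hd
  simp at hd
  rcases mul_self_eq_one_iff.mp hd with rfl | rfl
  · left; apply Subtype.ext; rw [h, one_smul, Matrix.SpecialLinearGroup.coe_one]
  · right; apply Subtype.ext; rw [h, coe_negI]; simp

theorem nonScalar_iff {g : SL2} : NonScalar g ↔ ¬ (g = 1 ∨ g = negI) := by
  constructor
  · rintro h (rfl | rfl)
    · exact h 1 (by simp)
    · exact h (-1) (by rw [coe_negI]; simp)
  · intro h a ha
    exact h (eq_one_or_negI_of_smul ha)

theorem pow_two_mul_eq_one {x : SL2} (h2 : (2 : F) ≠ 0)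
    (ht : Matrix.trace (x : M2) ^ 2 = 4) : x ^ (2 * p) = 1 := by
  refine pow_two_mul_char_eq_one p (K := F) (μ := Matrix.trace (x : M2) / 2) ?_ ?_
  · unfold IsEigen
    simp only [Algebra.algebraMap_self, RingHom.id_apply]
    field_simp
    linear_combination (-1) * ht
  · field_simp
    linear_combination ht

theorem trace_of_pow_char {x : SL2} (h2 : (2 : F) ≠ 0) (hx : x ^ p = 1) :
    Matrix.trace (x : M2) = 2 := by
  obtain ⟨μ, hμ⟩ := exists_isEigen x
  have hpr : p.Prime := Fact.out
  have hc := charP_of_injective_algebraMap (algebraMap F (AlgebraicClosure F)).injective p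
  have hN : (((x : M2) - 1) : M2) ^ p = 0 := by
    rw [sub_pow_char_of_commute (p := p) (Commute.one_right _), one_pow,
      ← Matrix.SpecialLinearGroup.coe_pow, hx, Matrix.SpecialLinearGroup.coe_one, sub_self]
  have hdetN : ((x : M2) - 1).det = 0 := by
    have := congrArg Matrix.det hN
    rw [Matrix.det_pow, Matrix.det_zero] at this
    exact pow_eq_zero_iff hpr.ne_zero |>.mp this
  have hd := sl2_det x
  rw [Matrix.det_fin_two] at hdetN
  simp at hdetN
  rw [Matrix.trace_fin_two]
  linear_combination hd - hdetN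

theorem sub_one_sq_eq_zero {x : SL2} (ht : Matrix.trace (x : M2) = 2) :
    ((x : M2) - 1) * ((x : M2) - 1) = 0 := by
  rw [Matrix.sub_mul, Matrix.mul_sub, Matrix.mul_sub, sl2_mul_self, ht]
  simp only [one_mul, mul_one, two_smul]
  abel

end Cfsg.Agent.Lib.Dickson
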