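import Cfsg.Agent.Lib.Dickson.Borel
import Mathlib.Tactic.IntervalCases

/-!
The class equation of a normalised subgroup and the resulting copy of `SL(2,p)`.
-/

namespace Cfsg.Agent.Lib.Dickson

open Matrix Cfsg.Agent.Lib.Linear
open Cfsg.Agent.Lib.PLocal.SLTwo (up lo up_add lo_add up_zero lo_zero val_mul)

/-- The numerical solutions of the class equation. -/
theorem numeric_solutions {p k n d z q : ℕ} (hp : p.Prime) (hp2 : p ≠ 2) (hk : 1 ≤ k)
    (hq : q = p ^ k) (hd : 2 ≤ d) (hdq : d + 1 ≤ q) (hn : q + 1 ≤ n) (hpz : ¬ p ∣ z)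
    (heq : (n : ℤ) * (q * d - q * z + 2 * z) = 2 * z) :
    n = q + 1 ∨ (q = 3 ∧ d = 2 ∧ z = 5) := by
  have hz : 0 < z := Nat.pos_of_ne_zero fun h => hpz (h ▸ dvd_zero p)
  have hp3 : 3 ≤ p := by have := hp.two_le; omega
  have hq3 : 3 ≤ q := by rw [hq]; exact hp3.trans (Nat.le_self_pow (by omega) p)
  set m : ℤ := q * d - q * z + 2 * z with hm
  have hmpos : 1 ≤ m := by
    by_contra hle
    have h1 : (n : ℤ) * m ≤ 0 := mul_nonpos_of_nonneg_of_nonpos (by positivity) (by omega)
    omega
  have hzd : d < z := by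
    by_contra hle
    have h1 : (q : ℤ) * z ≤ q * d := by
      exact_mod_cast Nat.mul_le_mul_left q (not_lt.1 hle)
    have h2 : (n : ℤ) * (2 * z) ≤ n * m := mul_le_mul_of_nonneg_left (by omega) (by positivity)
    nlinarith
  obtain ⟨t, ht⟩ : ∃ t, z = d + t := ⟨z - d, by omega⟩
  have ht1 : 1 ≤ t := by omega
  have hmt : m = 2 * z - q * t := by rw [hm, ht]; push_cast; ring
  have hb : q * t + 1 ≤ 2 * d + 2 * t := by
    have : (q : ℤ) * t + 1 ≤ 2 * d + 2 * t := by rw [ht] at hmt; push_cast at hmt; linarith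
    exact_mod_cast this
  have ht3 : t ≤ 3 := by
    by_contra h4
    have : 4 * (q - 2) ≤ t * (q - 2) := Nat.mul_le_mul_right _ (by omega)
    have h5 : t * (q - 2) + 2 * t = q * t := by
      rw [Nat.mul_comm q t, Nat.mul_comm 2 t, ← Nat.mul_add, Nat.sub_add_cancel (by omega)]
    omega
  interval_cases t
  · left
    have hnz : (n : ℤ) * m = 2 * z := heq
    obtain ⟨mn, hmn⟩ : ∃ mn : ℕ, m = mn := ⟨m.toNat, by omega⟩
    have hnat : n * mn = 2 * z := by
      have : ((n * mn : ℕ) : ℤ) = ((2 * z : ℕ) : ℤ) := by push_cast; rw [← hmn]; exact hnz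
      exact_mod_cast this
    have hdvd2 : mn ∣ 2 * z := ⟨n, by rw [← hnat]; ring⟩
    have hmq : mn + q = 2 * z := by omega
    have hdq' : mn ∣ q := (Nat.dvd_add_right (dvd_refl mn)).1 (hmq ▸ hdvd2)
    rw [hq] at hdq'
    obtain ⟨j, -, hj⟩ := (Nat.dvd_prime_pow hp).1 hdq'
    have hm1 : mn = 1 := by
      rcases Nat.eq_zero_or_pos j with rfl | hj0
      · simpa using hj
      · exfalso
        have hpd : p ∣ 2 * z := ((dvd_pow_self p hj0.ne').trans (hj ▸ dvd_refl mn)).trans hdvd2
        rcases hp.dvd_mul.1 hpd with h | h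
        · exact hp2 ((Nat.prime_dvd_prime_iff_eq hp Nat.prime_two).1 h)
        · exact hpz h
    rw [hm1, mul_one] at hnat
    omega
  · left
    have hd1 : d + 1 = q := by omega
    have hm2 : m = 2 := by omega
    have hnz : (n : ℤ) * m = 2 * z := heq
    rw [hm2] at hnz
    omega
  · right
    omega

variable {F : Type*} [Field F]

local notation "SL2" => Matrix.SpecialLinearGroup (Fin 2) F
local notation "M2" => Matrix (Fin 2) (Fin 2) F

variable [Finite F] {p : ℕ} [Fact p.Prime] [CharP F p]
variable {H : Subgroup (Matrix.SpecialLinearGroup (Fin 2) F)}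

theorem two_ne_zero_char (hp : p ≠ 2) : (2 : F) ≠ 0 := by
  intro h
  have h' : ((2 : ℕ) : F) = 0 := by exact_mod_cast h
  rw [CharP.cast_eq_zero_iff F p] at h'
  exact hp ((Nat.prime_dvd_prime_iff_eq Fact.out Nat.prime_two).1 h')

theorem pow_two_mul_of_tr {g : H} (hp : p ≠ 2) (hg : tr g ^ 2 = 4) : g ^ (2 * p) = 1 :=
  Subtype.ext (by simpa using pow_two_mul_eq_one (p := p) (two_ne_zero_char (F := F) hp) hg)

theorem mem_cls_upOne (hS : Normalised p H) (hp : p ≠ 2) {g : H} (hg : g ∉ scalarSet H)
    (h4 : tr g ^ 2 = 4) : g ∈ cls (upOne hS) := by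
  have hpr : p.Prime := Fact.out
  obtain ⟨j, hj⟩ : ∃ j, p + 1 = 2 * j := by
    obtain ⟨i, hi⟩ := hpr.odd_of_ne_two hp
    exact ⟨i + 1, by omega⟩
  have h2p : (g : SL2) ^ (2 * p) = 1 := pow_two_mul_eq_one (two_ne_zero_char (F := F) hp) h4
  set x : SL2 := (g : SL2) ^ (p + 1) with hx
  set s : SL2 := (g : SL2) ^ p with hs
  have hgxs : (g : SL2) = x * s := by
    rw [hx, hs, ← pow_add, show p + 1 + p = 2 * p + 1 by omega, pow_succ, h2p, one_mul]
  have hxp : x ^ p = 1 := by
    rw [hx, hj, ← pow_mul, show 2 * j * p = 2 * p * j by ring, pow_mul, h2p, one_pow]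
  have hs1 : s = 1 ∨ s = negI := by
    rcases eq_or_ne s 1 with h | h
    · exact Or.inl h
    · right
      apply Subtype.ext
      rw [coe_negI]
      refine eq_neg_one_of_mul_self (two_ne_zero_char (F := F) hp) h ?_
      rw [hs, ← pow_add, ← two_mul, h2p]
  obtain ⟨h, hh, a, ha⟩ := hS.conj_unip x (H.pow_mem g.2 _) hxp
  let h' : H := ⟨h, hh⟩
  have hy : h' * g * h'⁻¹ ∈ cen (upOne hS) := by
    rw [mem_cen_upOne_iff]
    have he : ((h' * g * h'⁻¹ : H) : SL2) = up a * s := by
      simp only [Subgroup.coe_mul, Subgroup.coe_inv, h', hgxs, ← ha]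
      rcases hs1 with e | e <;> rw [e]
      · simp
      · simp only [mul_assoc, negI_comm h⁻¹]
    rw [he]
    rcases hs1 with e | e <;> rw [e] <;> simp [coe_up, coe_negI]
  exact ⟨h'⁻¹, h' * g * h'⁻¹, ⟨hy, conj_notMem hg⟩, by simp [mul_assoc]⟩

theorem upOne_notMem_cls (hS : Normalised p H) {x : H} (hx : tr x ^ 2 ≠ 4) :
    x ∉ cls (upOne hS) := by
  rintro ⟨h, s, ⟨hs, hs'⟩, rfl⟩
  rw [tr_conj] at hx
  have h1 := (mem_cen_upOne_iff hS).1 hs
  apply hx
  have hd := sl2_det (s : SL2)
  rw [h1.1, mul_zero, sub_zero] at hd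
  unfold tr
  rw [Matrix.trace_fin_two]
  rcases h1.2 with e | e <;> rw [e] at hd ⊢
  · linear_combination (((s : SL2) : M2) 1 1 + 3) * hd
  · linear_combination (-1) * (((s : SL2) : M2) 1 1 - 3) * hd

theorem cen_facts (hS : Normalised p H) (hp : p ≠ 2) {x : H} (hx : tr x ^ 2 ≠ 4) :
    4 ≤ Nat.card (cen x) ∧ 2 ∣ Nat.card (cen x) ∧ ¬ p ∣ Nat.card (cen x) := by
  have h2 := two_ne_zero_char (F := F) hp
  have hneg : (⟨negI, hS.neg_mem⟩ : H) ∈ cen x :=
    scalarSet_subset_cen x (Or.inr rfl)
  have hne : negI ≠ (1 : SL2) := fun h => h2 (by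
    have := congrArg (fun z : SL2 => (z : M2) 0 0) h
    simp [coe_negI] at this
    linear_combination (-1) * this)
  have ho : orderOf (⟨negI, hS.neg_mem⟩ : H) = 2 := by
    refine orderOf_eq_prime ?_ fun h => hne (congrArg Subtype.val h)
    exact Subtype.ext (by simpa [sq] using negI_mul_self)
  have hev : 2 ∣ Nat.card (cen x) := by
    have := Subgroup.orderOf_dvd_natCard _ hneg
    rwa [ho] at this
  refine ⟨?_, hev, ?_⟩
  · have hsub : ({1, ⟨negI, hS.neg_mem⟩, x} : Set H) ⊆ (cen x : Set H) := by
      rintro y (rfl | rfl | rfl)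
      · exact one_mem _
      · exact hneg
      · exact self_mem_cen _
    have h3 := Set.ncard_le_ncard hsub (Set.toFinite _)
    have hx1 : x ∉ scalarSet H := notMem_of_tr hx
    rw [Set.ncard_insert_of_notMem, Set.ncard_pair, ← Nat.card_coe_set_eq] at h3
    · simp only [SetLike.coe_sort_coe] at h3
      omega
    · exact fun h => hx1 (Or.inr (congrArg Subtype.val h).symm)
    · rintro (h | h)
      · exact hne (congrArg Subtype.val h).symm
      · exact hx1 (Or.inl (congrArg Subtype.val h).symm)
  · intro hd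
    obtain ⟨y, hy⟩ := exists_prime_orderOf_dvd_card' p hd
    have hy1 : (y : H) ∉ scalarSet H := by
      intro hh
      have h21 : y ^ 2 = 1 := by
        apply Subtype.ext
        apply Subtype.ext
        rcases hh with e | e <;> simp [e, sq, negI_mul_self]
      have := orderOf_dvd_of_pow_eq_one h21
      rw [hy] at this
      exact hp ((Nat.prime_dvd_prime_iff_eq Fact.out Nat.prime_two).1 this)
    refine tr_sq_ne_of_mem (notMem_of_tr hx) y.2 hy1 hx ?_
    have hpow : ((y : H) : SL2) ^ p = 1 := by
      have := congrArg (fun z : cen x => ((z : H) : SL2)) (hy ▸ pow_orderOf_eq_one y)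
      simpa using this
    show Matrix.trace (((y : H) : SL2) : M2) ^ 2 = 4
    rw [trace_of_pow_char h2 hpow]
    norm_num

theorem pow_card_cen (g : H) : g ^ Nat.card (cen g) = 1 := by
  exact congrArg Subtype.val (pow_card_eq_one' (x := (⟨g, self_mem_cen g⟩ : cen g)))

/-- The lower transvection `lo l` as an element of `H`. -/
def loEl {l : F} (hl : lo l ∈ H) : H := ⟨lo l, hl⟩

theorem coset_injective {l : F} (hl0 : l ≠ 0) (hl : lo l ∈ H) :
    Function.Injective fun o : Option (transl H) => match o with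
      | none => ((1 : H) : H ⧸ borel H)
      | some a => (((⟨up (a : F), a.2⟩ : H) * loEl hl : H) : H ⧸ borel H) := by
  rintro (_ | a) (_ | b) h
  · rfl
  · exfalso
    rw [QuotientGroup.eq, mem_borel] at h
    simp [loEl, coe_up, coe_lo, Matrix.mul_apply, Fin.sum_univ_two] at h
    exact hl0 h
  · exfalso
    rw [eq_comm, QuotientGroup.eq, mem_borel] at h
    simp [loEl, coe_up, coe_lo, Matrix.mul_apply, Fin.sum_univ_two] at h
    exact hl0 h
  · rw [QuotientGroup.eq, mem_borel] at h
    simp only [Subgroup.coe_mul, Subgroup.coe_inv, loEl, _root_.mul_inv_rev, lo_inv, up_inv] at h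
    rw [mul_assoc, ← mul_assoc (up (-(a : F))), ← up_add] at h
    simp [coe_up, coe_lo, Matrix.mul_apply, Fin.sum_univ_two] at h
    have : l ^ 2 * ((b : F) - (a : F)) = 0 := by linear_combination (-1) * h
    rw [Subtype.ext (sub_eq_zero.1 ((mul_eq_zero.1 this).resolve_left (pow_ne_zero 2 hl0))).symm]

theorem card_le_index (hS : Normalised p H) : Nat.card (transl H) + 1 ≤ (borel H).index := by
  obtain ⟨l, hl0, hl⟩ := hS.exists_lo
  have := Nat.card_le_card_of_injective _ (coset_injective hl0 hl)
  rwa [Finite.card_option] at this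

/-- The lower parameter's inverse is an upper parameter when the index is minimal. -/
theorem hasSL2Copy_of_index (hS : Normalised p H) (hp : p ≠ 2)
    (hn : (borel H).index = Nat.card (transl H) + 1) : HasSL2Copy p H := by
  have h2 := two_ne_zero_char (F := F) hp
  obtain ⟨l, hl0, hl⟩ := hS.exists_lo
  have hbij := (Nat.bijective_iff_injective_and_card _).2
    ⟨coset_injective hl0 hl, by rw [Finite.card_option]; exact hn.symm⟩
  have h2l : lo (2 * l) ∈ H := by rw [two_mul, lo_add]; exact H.mul_mem hl hl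
  obtain ⟨o, ho⟩ := hbij.2 ((⟨lo (2 * l), h2l⟩ : H) : H ⧸ borel H)
  rcases o with _ | a
  · exfalso
    simp only at ho
    rw [QuotientGroup.eq, mem_borel] at ho
    simp [coe_lo] at ho
    exact ho.elim h2 hl0
  · simp only at ho
    rw [QuotientGroup.eq, mem_borel] at ho
    simp only [Subgroup.coe_mul, Subgroup.coe_inv, loEl, _root_.mul_inv_rev, lo_inv, up_inv] at ho
    simp [coe_up, coe_lo, Matrix.mul_apply, Fin.sum_univ_two] at ho
    have he : l * (1 + (a : F) * (2 * l)) = 0 := by linear_combination ho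
    have ha : 1 + (a : F) * (2 * l) = 0 := (mul_eq_zero.1 he).resolve_left hl0
    refine hasSL2Copy_of_pair (p := p) (a := -((a : F) + (a : F))) (c := l) 1 one_ne_zero ?_ hl ?_
    · exact (mem_transl H).1 (neg_mem (add_mem a.2 a.2))
    · rw [map_one]; linear_combination (-1) * ha

/-- Recognition from element orders in characteristic three. -/
theorem hasSL2Copy_of_orders (hS : Normalised 3 H) [CharP F 3] [Fact (Nat.Prime 3)]
    (hord : ∀ g : H, g ^ 6 = 1 ∨ g ^ 4 = 1 ∨ g ^ 10 = 1) : HasSL2Copy 3 H := by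
  obtain ⟨l, hl0, hl⟩ := hS.exists_lo
  let g : H := upOne hS * loEl hl
  have h2 : (2 : F) ≠ 0 := two_ne_zero_char (p := 3) (by norm_num)
  have h3 : (3 : F) = 0 := by exact_mod_cast CharP.cast_eq_zero F 3
  have htr : Matrix.trace ((g : SL2) : M2) = 2 + l := by
    simp [g, upOne, loEl, coe_up, coe_lo, Matrix.trace_fin_two, Matrix.mul_apply, Fin.sum_univ_two]
    ring
  set t : F := 2 + l with ht
  obtain ⟨μ, hμ⟩ := exists_isEigen (g : SL2)
  have hT := hμ.trace_eq
  rw [htr] at hT
  have hμ0 := hμ.ne_zero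
  have hpowμ : ∀ k, g ^ k = 1 → μ ^ 2 ≠ 1 → μ ^ k = 1 := by
    intro k hk hne
    have h1 : (g : SL2) ^ k = 1 := by
      simpa using congrArg (fun z : H => (z : SL2)) hk
    rw [← orderOf_dvd_iff_pow_eq_one, orderOf_eq_orderOf_eigen hμ hne] at h1
    exact orderOf_dvd_iff_pow_eq_one.1 h1
  have pair : ∀ μ' : ZMod 3, μ' ≠ 0 → l = ZMod.castHom dvd_rfl F μ' → HasSL2Copy 3 H :=
    fun μ' h0 he => hasSL2Copy_of_pair μ' h0 hS.up_mem hl (by rw [one_mul, he])
  have hmapinj := (algebraMap F (AlgebraicClosure F)).injective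
  by_cases hμ2 : μ ^ 2 = 1
  · have ht4 : t ^ 2 = 4 := by
      apply hmapinj
      rw [map_pow, hT, map_ofNat]
      field_simp
      linear_combination (μ ^ 2 - 1) * hμ2
    have : l * (l + 4) = 0 := by rw [ht] at ht4; linear_combination ht4
    have hl4 : l = 2 := by
      linear_combination ((mul_eq_zero.1 this).resolve_left hl0) - 2 * h3
    exact pair (2 : ZMod 3) (fun h => absurd (congrArg ZMod.val h) (Nat.succ_ne_zero 1)) (by rw [hl4, map_ofNat])
  · rcases hord g with h | h | h
    · exfalso
      apply hμ2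
      have h3' : (3 : AlgebraicClosure F) = 0 := by
        rw [← map_ofNat (algebraMap F (AlgebraicClosure F)) 3, h3, map_zero]
      have : (μ ^ 2 - 1) ^ 3 = 0 := by
        linear_combination hpowμ 6 h hμ2 - (μ ^ 4 - μ ^ 2) * h3'
      exact sub_eq_zero.1 (eq_zero_of_pow_eq_zero this)
    · have hm : μ ^ 2 + 1 = 0 := by
        have : (μ ^ 2 - 1) * (μ ^ 2 + 1) = 0 := by linear_combination hpowμ 4 h hμ2
        exact (mul_eq_zero.1 this).resolve_left (sub_ne_zero.2 hμ2)
      have ht0 : t = 0 := by
        apply hmapinj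
        rw [hT, map_zero]
        field_simp
        linear_combination hm
      have hl1 : l = 1 := by rw [ht] at ht0; linear_combination ht0 - h3
      exact pair 1 one_ne_zero (by rw [hl1, map_one])
    · have hsum : μ ^ 8 + μ ^ 6 + μ ^ 4 + μ ^ 2 + 1 = 0 := by
        have : (μ ^ 2 - 1) * (μ ^ 8 + μ ^ 6 + μ ^ 4 + μ ^ 2 + 1) = 0 := by
          linear_combination hpowμ 10 h hμ2
        exact (mul_eq_zero.1 this).resolve_left (sub_ne_zero.2 hμ2)
      have hquart : t ^ 4 - 3 * t ^ 2 + 1 = 0 := by
        apply hmapinj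
        simp only [map_add, map_sub, map_mul, map_pow, map_one, map_zero, map_ofNat, hT]
        field_simp
        linear_combination hsum
      obtain ⟨hu', hl'⟩ := square_trick hl0 hS.up_mem hl
      have hfac : (t ^ 2 + t - 1) * (t ^ 2 - t - 1) = 0 := by linear_combination hquart
      refine HasSL2Copy.map (MulAut.conj (up l⁻¹ : SL2)).toMonoidHom (MulEquiv.injective _) ?_
      rcases mul_eq_zero.1 hfac with e | e <;> rw [ht] at e
      · have hne : -l ^ 2 ≠ 0 := neg_ne_zero.2 (pow_ne_zero 2 hl0)
        obtain ⟨hu'', hl''⟩ := square_trick hne hu' hl'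
        refine HasSL2Copy.map (MulAut.conj (up (-l ^ 2)⁻¹ : SL2)).toMonoidHom
          (MulEquiv.injective _) ?_
        refine hasSL2Copy_of_pair (p := 3) 1 one_ne_zero hu'' hl'' ?_
        rw [map_one, one_mul]
        linear_combination (-(l ^ 2) + 5 * l - 20) * e + (25 * l + 33) * h3
      · refine hasSL2Copy_of_pair (p := 3) 1 one_ne_zero hu' hl' ?_
        rw [map_one, one_mul]
        linear_combination (-1) * e + l * h3

theorem hasSL2Copy_of_normalised (hS : Normalised p H) (hp : p ≠ 2) : HasSL2Copy p H := by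
  have hpr : p.Prime := Fact.out
  have h2 := two_ne_zero_char (F := F) hp
  obtain ⟨k, hk, hqk⟩ := exists_card_transl hS
  set q := Nat.card (transl H) with hq
  set e := Nat.card (diagHom H).range with he
  set n := (borel H).index with hn
  have hp3 : 3 ≤ p := by have := hpr.two_le; omega
  have hq3 : 3 ≤ q := by rw [hqk]; exact hp3.trans (Nat.le_self_pow (by omega) p)
  have hqn : q + 1 ≤ n := card_le_index hS
  have he2 : 2 ∣ e := even_card_range hS h2
  have he0 : 0 < e := Nat.card_pos
  have heq' : e + 2 ≤ 2 * q := card_range_le hS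
  have hB : Nat.card (borel H) = q * e := card_borel
  have hG : Nat.card H = n * (q * e) := by rw [← hB, Subgroup.index_mul_card]
  have hcompl := ncard_compl_scalarSet h2 hS.neg_mem
  have hTP : (cls (upOne hS)).ncard = n * (2 * q - 2) := by
    have := ncard_cls_mul h2 hS.neg_mem (upOne_notMem hS)
    rw [normalizer_cen_upOne hS, card_cen_upOne hS h2, hB, hG] at this
    have hpos : 0 < q * e := by positivity
    exact Nat.eq_of_mul_eq_mul_right hpos (by rw [this, ← hq]; ring)
  -- the bound for a semisimple class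
  have hsemi : ∀ x : H, tr x ^ 2 ≠ 4 → n * (q * e) ≤ 4 * (cls x).ncard := by
    intro x hx
    have h1 := ncard_cls_mul h2 hS.neg_mem (notMem_of_tr hx)
    rw [hG] at h1
    obtain ⟨hc4, -, -⟩ := cen_facts hS hp hx
    have hc0 : 0 < Nat.card (cen x) := by omega
    have hle : (cls x).ncard * Nat.card (Subgroup.normalizer (cen x : Set H)) ≤
        (cls x).ncard * (2 * Nat.card (cen x)) := by
      refine Nat.mul_le_mul_left _ ?_
      rcases card_normalizer_cases h2 hx with h | h <;> rw [h] <;> omega
    have hge : n * (q * e) * Nat.card (cen x) ≤ 2 * (n * (q * e) * (Nat.card (cen x) - 2)) := by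
      rw [Nat.mul_left_comm 2 (n * (q * e))]
      exact Nat.mul_le_mul_left _ (by omega)
    refine Nat.le_of_mul_le_mul_right ?_ hc0
    rw [h1] at hle
    calc n * (q * e) * Nat.card (cen x) ≤ 2 * (n * (q * e) * (Nat.card (cen x) - 2)) := hge
      _ ≤ 2 * ((cls x).ncard * (2 * Nat.card (cen x))) := Nat.mul_le_mul_left _ hle
      _ = 4 * (cls x).ncard * Nat.card (cen x) := by ring
  have hsub : ∀ x : H, cls x ⊆ (scalarSet H)ᶜ := fun x y hy => cls_notMem hy
  have hdisjU : ∀ x : H, tr x ^ 2 ≠ 4 → Disjoint (cls (upOne hS)) (cls x) := fun x hx =>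
    (disjoint_cls (notMem_of_tr hx) (upOne_notMem hS) (upOne_notMem_cls hS hx)).symm
  have hsum1 : ∀ x : H, tr x ^ 2 ≠ 4 →
      (cls (upOne hS)).ncard + (cls x).ncard + 2 ≤ Nat.card H := by
    intro x hx
    rw [← hcompl, ← Set.ncard_union_eq (hdisjU x hx)]
    exact Nat.add_le_add_right
      (Set.ncard_le_ncard (Set.union_subset (hsub _) (hsub _)) (Set.toFinite _)) 2
  by_cases hecase : e = 2
  · -- no torus
    rw [hecase] at hG hsemi
    have hex : ∃ x : H, tr x ^ 2 ≠ 4 := by
      by_contra hall
      have hle := Set.ncard_le_ncard (s := (scalarSet H)ᶜ) (t := cls (upOne hS))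
        (fun g hg => mem_cls_upOne hS hp hg (by_contra fun h => hall ⟨g, h⟩)) (Set.toFinite _)
      rw [hTP] at hle
      have : n * (q * 2) = n * (2 * q - 2) + 2 * n := by
        rw [mul_comm 2 n, ← mul_add, Nat.sub_add_cancel (by omega), mul_comm q 2]
      omega
    have hid : n * (q * 2) = n * (2 * q - 2) + 2 * n := by
      rw [mul_comm 2 n, ← mul_add, Nat.sub_add_cancel (by omega), mul_comm q 2]
    have hq' : q = 3 := by
      obtain ⟨x, hx⟩ := hex
      have h1 := hsemi x hx
      have h3 := hsum1 x hx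
      rw [hTP, hG] at h3
      by_contra hne
      have : n * (4 * 2) ≤ n * (q * 2) := Nat.mul_le_mul_left _ (by omega)
      omega
    have hp3' : p = 3 := by
      rw [hq'] at hqk
      exact (Nat.prime_dvd_prime_iff_eq hpr Nat.prime_three).1 (hqk ▸ dvd_pow_self p (by omega))
    subst hp3'
    refine hasSL2Copy_of_orders hS fun g => ?_
    by_cases hg : tr g ^ 2 = 4
    · exact Or.inl (pow_two_mul_of_tr hp hg)
    · right; left
      obtain ⟨hc4, hcev, -⟩ := cen_facts hS hp hg
      have h1 := ncard_cls_mul h2 hS.neg_mem (notMem_of_tr hg)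
      rw [hG, hq'] at h1
      have h3 := hsum1 g hg
      rw [hTP, hG, hq'] at h3
      have hNle : (cls g).ncard * Nat.card (Subgroup.normalizer (cen g : Set H)) ≤
          (cls g).ncard * (2 * Nat.card (cen g)) := by
        refine Nat.mul_le_mul_left _ ?_
        rcases card_normalizer_cases h2 hg with h | h <;> rw [h] <;> omega
      rw [h1] at hNle
      have hT : (cls g).ncard * (2 * Nat.card (cen g)) ≤ (2 * n) * (2 * Nat.card (cen g)) :=
        Nat.mul_le_mul_right _ (by omega)
      obtain ⟨c', hc'⟩ : ∃ c', Nat.card (cen g) = c' + 2 := ⟨Nat.card (cen g) - 2, by omega⟩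
      rw [hc', Nat.add_sub_cancel] at hNle
      rw [hc'] at hT
      have hc6 : c' < 4 := by
        by_contra h
        have hnpos : 0 < n := by omega
        have hT' : (cls g).ncard + 2 ≤ 2 * n := by omega
        have h5 : ((cls g).ncard + 2) * (2 * (c' + 2)) ≤ (2 * n) * (2 * (c' + 2)) :=
          Nat.mul_le_mul_right _ hT'
        nlinarith
      have hceq : Nat.card (cen g) = 4 := by omega
      have := pow_card_cen g
      rwa [hceq] at this
  · have he4 : 4 ≤ e := by omega
    obtain ⟨d, hd⟩ : ∃ d, e = 2 * d := ⟨e / 2, by omega⟩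
    obtain ⟨x1, hx1, hc1⟩ := exists_torus (H := H) h2 (by omega)
    have h1 := ncard_cls_mul h2 hS.neg_mem (notMem_of_tr hx1)
    rw [hG] at h1
    have h3 := hsum1 x1 hx1
    rw [hTP, hG] at h3
    have hsum2 : ∀ x : H, tr x ^ 2 ≠ 4 → x ∉ cls x1 →
        (cls (upOne hS)).ncard + (cls x1).ncard + (cls x).ncard + 2 ≤ Nat.card H := by
      intro x hx hx'
      rw [← hcompl, ← Set.ncard_union_eq (hdisjU x1 hx1), ← Set.ncard_union_eq]
      · exact Nat.add_le_add_right (Set.ncard_le_ncard (Set.union_subset
          (Set.union_subset (hsub _) (hsub _)) (hsub _)) (Set.toFinite _)) 2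
      · rw [Set.disjoint_union_left]
        exact ⟨hdisjU x hx, (disjoint_cls (notMem_of_tr hx) (notMem_of_tr hx1) hx').symm⟩
    have hnone : (∀ x : H, tr x ^ 2 ≠ 4 → x ∈ cls x1) →
        Nat.card H ≤ (cls (upOne hS)).ncard + (cls x1).ncard + 2 := by
      intro hall
      rw [← hcompl, ← Set.ncard_union_eq (hdisjU x1 hx1)]
      refine Nat.add_le_add_right (Set.ncard_le_ncard ?_ (Set.toFinite _)) 2
      intro g hg
      by_cases h : tr g ^ 2 = 4
      · exact Or.inl (mem_cls_upOne hS hp hg h)
      · exact Or.inr (hall g h)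
    rw [← he] at hc1
    rw [hc1] at h1
    rcases card_normalizer_cases h2 hx1 with hN | hN <;> rw [hN, hc1] at h1
    · -- self-normalising torus
      exfalso
      have hT1 : (cls x1).ncard = n * q * (e - 2) :=
        Nat.eq_of_mul_eq_mul_right he0 (by rw [h1]; ring)
      have hids : n * (q * e) = n * (2 * q - 2) + n * q * (e - 2) + 2 * n := by
        obtain ⟨e', he'⟩ : ∃ e', e = e' + 2 := ⟨e - 2, by omega⟩
        rw [he', Nat.add_sub_cancel]
        obtain ⟨q', hq'⟩ : ∃ q', q = q' + 1 := ⟨q - 1, by omega⟩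
        rw [hq', show 2 * (q' + 1) - 2 = 2 * q' by omega]
        ring
      by_cases hall : ∀ x : H, tr x ^ 2 ≠ 4 → x ∈ cls x1
      · have := hnone hall
        rw [hTP, hG, hT1] at this
        omega
      · push Not at hall
        obtain ⟨x, hx, hx'⟩ := hall
        have h5 := hsum2 x hx hx'
        rw [hTP, hG, hT1] at h5
        have h6 := hsemi x hx
        have : n * (3 * 4) ≤ n * (q * e) := Nat.mul_le_mul_left _ (Nat.mul_le_mul hq3 he4)
        omega
    · -- dihedral torus
      obtain ⟨d', hd'⟩ : ∃ d', d = d' + 1 := ⟨d - 1, by omega⟩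
      have hT1 : (cls x1).ncard = n * q * d' := by
        have : (cls x1).ncard * (2 * e) = n * q * d' * (2 * e) := by
          rw [h1, hd, show 2 * d - 2 = 2 * d' by omega]; ring
        exact Nat.eq_of_mul_eq_mul_right (by omega) this
      have hd1 : 1 ≤ d' := by omega
      have hn2 : 2 ≤ n := by omega
      obtain ⟨q', hq'⟩ : ∃ q', q = q' + 1 := ⟨q - 1, by omega⟩
      by_cases hall : ∀ x : H, tr x ^ 2 ≠ 4 → x ∈ cls x1
      · exfalso
        have := hnone hall
        rw [hTP, hG, hT1, hd, hd', hq', show 2 * (q' + 1) - 2 = 2 * q' by omega] at this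
        have h7 : 3 * n ≤ n * (2 * (q' + 1) * (d' + 1) - 2 * q' - (q' + 1) * d') := by
          rw [mul_comm 3 n]
          refine Nat.mul_le_mul_left _ ?_
          have : (q' + 1) * 1 ≤ (q' + 1) * d' := Nat.mul_le_mul_left _ hd1
          have h8 : 2 * (q' + 1) * (d' + 1) = 2 * ((q' + 1) * d') + 2 * q' + 2 := by ring
          omega
        rw [Nat.mul_sub, Nat.mul_sub] at h7
        have h9 : n * ((q' + 1) * (2 * (d' + 1))) = n * (2 * (q' + 1) * (d' + 1)) := by ring
        have h10 : n * (q' + 1) * d' = n * ((q' + 1) * d') := mul_assoc _ _ _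
        omega
      · push Not at hall
        obtain ⟨x2, hx2, hx2'⟩ := hall
        have h5 := hsum2 x2 hx2 hx2'
        obtain ⟨hc4, hcev, hcp⟩ := cen_facts hS hp hx2
        obtain ⟨z, hz⟩ := hcev
        have hz2 : 2 ≤ z := by omega
        obtain ⟨z', hz'⟩ : ∃ z', z = z' + 1 := ⟨z - 1, by omega⟩
        have hquarter := hsemi x2 hx2
        rw [hTP, hG, hT1] at h5
        have h6 := ncard_cls_mul h2 hS.neg_mem (notMem_of_tr hx2)
        rw [hG, hz, show 2 * z - 2 = 2 * z' by omega] at h6
        have hids : n * (q * e) = 2 * (n * q * d') + 2 * (n * q) := by rw [hd, hd']; ring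
        have hTPid : n * (2 * q - 2) + 2 * n = 2 * (n * q) := by
          rw [mul_comm 2 n, ← mul_add, Nat.sub_add_cancel (by omega)]; ring
        have hnq : 3 * n ≤ n * q := by rw [mul_comm 3 n]; exact Nat.mul_le_mul_left _ hq3
        have hN2 : Nat.card (Subgroup.normalizer (cen x2 : Set H)) = 2 * (2 * z) := by
          rcases card_normalizer_cases h2 hx2 with h | h
          · exfalso
            rw [h, hz] at h6
            have h7 : (cls x2).ncard * z = n * (q * e) * z' :=
              Nat.eq_of_mul_eq_mul_right (m := 2) (by omega) (by linarith [h6])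
            have h8 : n * (q * e) * z ≤ 2 * (n * (q * e) * z') := by
              rw [Nat.mul_left_comm 2 (n * (q * e))]; exact Nat.mul_le_mul_left _ (by omega)
            have h9 : n * (q * e) ≤ 2 * (cls x2).ncard := by
              refine Nat.le_of_mul_le_mul_right ?_ (show 0 < z by omega)
              rw [mul_assoc 2, h7]
              exact h8
            omega
          · rw [h, hz]
        rw [hN2] at h6
        have hall2 : ∀ x : H, tr x ^ 2 ≠ 4 → x ∈ cls x1 ∨ x ∈ cls x2 := by
          intro x hx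
          by_contra hcon
          push Not at hcon
          have h7 : (cls (upOne hS)).ncard + (cls x1).ncard + (cls x2).ncard + (cls x).ncard + 2 ≤
              Nat.card H := by
            rw [← hcompl, ← Set.ncard_union_eq (hdisjU x1 hx1), ← Set.ncard_union_eq,
              ← Set.ncard_union_eq]
            · exact Nat.add_le_add_right (Set.ncard_le_ncard (Set.union_subset (Set.union_subset
                (Set.union_subset (hsub _) (hsub _)) (hsub _)) (hsub _)) (Set.toFinite _)) 2
            · rw [Set.disjoint_union_left, Set.disjoint_union_left]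
              exact ⟨⟨hdisjU x hx,
                (disjoint_cls (notMem_of_tr hx) (notMem_of_tr hx1) hcon.1).symm⟩,
                (disjoint_cls (notMem_of_tr hx) (notMem_of_tr hx2) hcon.2).symm⟩
            · rw [Set.disjoint_union_left]
              exact ⟨hdisjU x2 hx2,
                (disjoint_cls (notMem_of_tr hx2) (notMem_of_tr hx1) hx2').symm⟩
          rw [hTP, hT1, hG] at h7
          have := hsemi x hx
          omega
        have hexact : (cls (upOne hS)).ncard + (cls x1).ncard + (cls x2).ncard + 2 =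
            Nat.card H := by
          refine le_antisymm (hsum2 x2 hx2 hx2') ?_
          rw [← hcompl]
          refine Nat.add_le_add_right ((Set.ncard_le_ncard (t := cls (upOne hS) ∪ cls x1 ∪ cls x2)
            ?_ (Set.toFinite _)).trans ((Set.ncard_union_le _ _).trans
              (Nat.add_le_add_right (Set.ncard_union_le _ _) _))) 2
          intro g hg
          by_cases h : tr g ^ 2 = 4
          · exact Or.inl (Or.inl (mem_cls_upOne hS hp hg h))
          · rcases hall2 g h with h' | h'
            · exact Or.inl (Or.inr h')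
            · exact Or.inr h'
        rw [hTP, hT1, hG] at hexact
        have hEq : (n : ℤ) * (q * d - q * z + 2 * z) = 2 * z := by
          have a1 : ((cls x2).ncard : ℤ) * z = n * q * d * z' := by
            have h : (cls x2).ncard * z * 4 = n * q * d * z' * 4 := by
              calc (cls x2).ncard * z * 4 = (cls x2).ncard * (2 * (2 * z)) := by ring
                _ = n * (q * e) * (2 * z') := h6
                _ = n * q * d * z' * 4 := by rw [hd]; ring
            exact_mod_cast Nat.eq_of_mul_eq_mul_right (by omega : 0 < 4) h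
          have a2 : ((cls x2).ncard : ℤ) + 2 = n * q * d' + 2 * n := by
            have : (cls x2).ncard + 2 = n * q * d' + 2 * n := by omega
            exact_mod_cast this
          have hdz : (d : ℤ) = d' + 1 := by exact_mod_cast hd'
          have hzz : (z : ℤ) = z' + 1 := by exact_mod_cast hz'
          rw [hdz, hzz] at a1 ⊢
          linear_combination a1 - ((z' : ℤ) + 1) * a2
        rcases numeric_solutions hpr hp hk hqk (by omega) (by omega) hqn
            (fun h => hcp (hz ▸ h.mul_left 2)) hEq with hn' | ⟨hq3', hd2, hz5⟩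
        · exact hasSL2Copy_of_index hS hp hn'
        · have hp3' : p = 3 := by
            rw [hq3'] at hqk
            exact (Nat.prime_dvd_prime_iff_eq hpr Nat.prime_three).1
              (hqk ▸ dvd_pow_self p (by omega))
          subst hp3'
          refine hasSL2Copy_of_orders hS fun g => ?_
          by_cases hg : tr g ^ 2 = 4
          · exact Or.inl (pow_two_mul_of_tr hp hg)
          · right
            rcases hall2 g hg with h | h
            · left
              have hc := card_cen_of_mem_cls (notMem_of_tr hx1) h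
              rw [hc1] at hc
              have := pow_card_cen g
              rwa [hc, hd, hd2] at this
            · right
              have hc := card_cen_of_mem_cls (notMem_of_tr hx2) h
              rw [hz] at hc
              have := pow_card_cen g
              rwa [hc, hz5] at this

end Cfsg.Agent.Lib.Dickson
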