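import Mathlib.GroupTheory.Index
import Mathlib.Data.Set.Card

/-!
Counting the conjugates of a subset that is a trivial intersection set for a subgroup.
-/

namespace Cfsg.Agent.Lib.Dickson

variable {G : Type*} [Group G]

/-- All conjugates of elements of `S`. -/
def conjClosure (S : Set G) : Set G := {y | ∃ h : G, ∃ s ∈ S, h * s * h⁻¹ = y}

theorem subset_conjClosure (S : Set G) : S ⊆ conjClosure S :=
  fun s hs => ⟨1, s, hs, by simp⟩

theorem conj_mem_conjClosure {S : Set G} {y : G} (hy : y ∈ conjClosure S) (g : G) :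
    g * y * g⁻¹ ∈ conjClosure S := by
  obtain ⟨h, s, hs, rfl⟩ := hy
  exact ⟨g * h, s, hs, by simp [mul_assoc]⟩

theorem ncard_conjClosure [Finite G] (S : Set G) (K : Subgroup G)
    (hK : ∀ k ∈ K, ∀ s ∈ S, k * s * k⁻¹ ∈ S)
    (hTI : ∀ h : G, ∀ s ∈ S, h * s * h⁻¹ ∈ S → h ∈ K) :
    (conjClosure S).ncard * Nat.card K = Nat.card G * S.ncard := by
  choose σh σs hσS hσ using fun y : conjClosure S => y.2
  let f : conjClosure S × K → G × S := fun p =>
    (σh p.1 * (p.2 : G), ⟨(p.2 : G)⁻¹ * σs p.1 * p.2,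
      by simpa using hK (p.2 : G)⁻¹ (K.inv_mem p.2.2) _ (hσS p.1)⟩)
  have hf : Function.Bijective f := by
    constructor
    · rintro ⟨y, k⟩ ⟨y', k'⟩ h
      simp only [f, Prod.mk.injEq, Subtype.mk.injEq] at h
      obtain ⟨h1, h2⟩ := h
      have key : ∀ (z : conjClosure S) (j : G),
          (σh z * j) * (j⁻¹ * σs z * j) * (σh z * j)⁻¹ = z := by
        intro z j
        conv_rhs => rw [← hσ z]
        simp [mul_assoc]
      have hy : y = y' := by
        apply Subtype.ext
        rw [← key y k, ← key y' k', h1, h2]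
      subst hy
      simp only [mul_right_inj] at h1
      rw [Subtype.ext h1]
    · rintro ⟨h, s, hs⟩
      let y : conjClosure S := ⟨h * s * h⁻¹, h, s, hs, rfl⟩
      have hy : σh y * σs y * (σh y)⁻¹ = h * s * h⁻¹ := hσ y
      have hc : ((σh y)⁻¹ * h) * s * ((σh y)⁻¹ * h)⁻¹ = σs y := by
        have : σs y = (σh y)⁻¹ * (h * s * h⁻¹) * σh y := by rw [← hy]; simp [mul_assoc]
        rw [this]; simp [mul_assoc]
      have hk : (σh y)⁻¹ * h ∈ K := hTI _ s hs (by rw [hc]; exact hσS y)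
      refine ⟨(y, ⟨_, hk⟩), ?_⟩
      simp only [f, Prod.mk.injEq, Subtype.mk.injEq]
      refine ⟨by simp, ?_⟩
      rw [← hc]; simp [mul_assoc]
  have := Nat.card_eq_of_bijective f hf
  rwa [Nat.card_prod, Nat.card_prod, Nat.card_coe_set_eq, Nat.card_coe_set_eq] at this

end Cfsg.Agent.Lib.Dickson
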