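import Cfsg.Agent.Lib.Dickson.Count

/-!
Dickson's lemma: a subgroup of `SL(2,F)` (`F` finite of odd characteristic `p`) with more than one
Sylow `p`-subgroup contains a copy of `SL(2,p)`.
-/

namespace Cfsg.Agent.Lib.Dickson

open Matrix Cfsg.Agent.Lib.Linear
open Cfsg.Agent.Lib.PLocal.SLTwo (up lo up_add lo_add up_zero lo_zero val_mul closure_pair_eq_top
  up_natCast lo_natCast)
open scoped Pointwise

variable {F : Type*} [Field F] [Finite F] {p : ℕ} [Fact p.Prime] [CharP F p]

local notation "SL2" => Matrix.SpecialLinearGroup (Fin 2) F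
local notation "M2" => Matrix (Fin 2) (Fin 2) F

/-- Every element of order `p` is conjugate into the upper unitriangular group. -/
def UnipConj (p : ℕ) (H : Subgroup (Matrix.SpecialLinearGroup (Fin 2) F)) : Prop :=
  ∀ x ∈ H, x ^ p = 1 → ∃ h ∈ H, ∃ a, h * x * h⁻¹ = up a

theorem UnipConj.comap {H : Subgroup SL2} (h : UnipConj p H) (φ : SL2 →* SL2)
    (hinj : Function.Injective φ) (hsurj : Function.Surjective φ)
    (hup : ∀ b, ∃ b', φ (up b') = up b) : UnipConj p (H.comap φ) := by
  intro x hx hxp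
  obtain ⟨k, hk, b, hb⟩ := h (φ x) hx (by rw [← map_pow, hxp, map_one])
  obtain ⟨k0, rfl⟩ := hsurj k
  obtain ⟨b', hb'⟩ := hup b
  exact ⟨k0, hk, b', hinj (by rw [map_mul, map_mul, map_inv, hb, hb'])⟩

/-- The subgroup generated by `H` and `-1`. -/
def signClosure (H : Subgroup (Matrix.SpecialLinearGroup (Fin 2) F)) :
    Subgroup (Matrix.SpecialLinearGroup (Fin 2) F) where
  carrier := {x | x ∈ H ∨ negI * x ∈ H}
  one_mem' := Or.inl H.one_mem
  mul_mem' {x y} hx hy := by
    simp only [Set.mem_setOf_eq] at *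
    rcases hx with hx | hx <;> rcases hy with hy | hy
    · exact Or.inl (H.mul_mem hx hy)
    · right
      rw [← mul_assoc, negI_comm x, mul_assoc]
      exact H.mul_mem hx hy
    · right
      rw [← mul_assoc]
      exact H.mul_mem hx hy
    · left
      have := H.mul_mem hx hy
      rwa [negI_comm x, mul_assoc, ← mul_assoc negI negI, negI_mul_self, one_mul] at this
  inv_mem' {x} hx := by
    simp only [Set.mem_setOf_eq] at *
    rcases hx with hx | hx
    · exact Or.inl (H.inv_mem hx)
    · right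
      have := H.inv_mem hx
      have hinv : (negI : SL2)⁻¹ = negI := inv_eq_of_mul_eq_one_right negI_mul_self
      rwa [_root_.mul_inv_rev, hinv, ← negI_comm] at this

omit [Finite F] in
theorem mem_of_mem_signClosure (hp : p ≠ 2) {H : Subgroup SL2} {x : SL2}
    (hx : x ∈ signClosure H) (hxp : x ^ p = 1) : x ∈ H := by
  rcases hx with hx | hx
  · exact hx
  · obtain ⟨i, hi⟩ := (Fact.out : p.Prime).odd_of_ne_two hp
    have h1 : (negI * x : SL2) ^ p = negI := by
      rw [(Commute.mul_pow (negI_comm x) p), hxp, mul_one, hi, pow_succ, pow_mul, sq,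
        negI_mul_self, one_pow, one_mul]
    have hneg : (negI : SL2) ∈ H := h1 ▸ H.pow_mem hx p
    have := H.mul_mem hneg hx
    rwa [← mul_assoc, negI_mul_self, one_mul] at this

theorem hasSL2Copy_of_signClosure (hp : p ≠ 2) {H : Subgroup SL2}
    (h : HasSL2Copy p (signClosure H)) : HasSL2Copy p H := by
  obtain ⟨ψ, hψ, hle⟩ := h
  refine ⟨ψ, hψ, ?_⟩
  rw [MonoidHom.range_eq_map, ← closure_pair_eq_top (p := p), MonoidHom.map_closure,
    Subgroup.closure_le]
  rintro _ ⟨z, hz, rfl⟩
  refine mem_of_mem_signClosure hp (hle ⟨z, rfl⟩) ?_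
  rw [← map_pow]
  rcases hz with rfl | rfl
  · rw [← up_natCast, ZMod.natCast_self, up_zero, map_one]
  · rw [← lo_natCast, ZMod.natCast_self, lo_zero, map_one]

theorem hasSL2Copy_of_elements (hp : p ≠ 2) {H : Subgroup SL2} (hU : UnipConj p H) {a : F}
    (ha : a ≠ 0) (hua : up a ∈ H) {y : SL2} (hy : y ∈ H) (hyp : y ^ p = 1)
    (hy10 : (y : M2) 1 0 ≠ 0) : HasSL2Copy p H := by
  have h2 := two_ne_zero_char (F := F) hp
  set c := (y : M2) 1 0 with hc
  set u := ((y : M2) 0 0 - 1) / c with hu
  have htr := trace_of_pow_char h2 hyp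
  rw [Matrix.trace_fin_two] at htr
  have hd := sl2_det y
  have hyc : (up u : SL2) * lo c * (up u)⁻¹ = y := by
    rw [up_inv]
    apply Subtype.ext
    have huc : u * c = (y : M2) 0 0 - 1 := div_mul_cancel₀ _ hy10
    have h11 : (y : M2) 1 1 = 1 - u * c := by linear_combination htr + huc
    have h01 : (y : M2) 0 1 = -(u ^ 2 * c) := by
      apply mul_right_cancel₀ hy10
      linear_combination (y : M2) 0 0 * htr - hd + ((y : M2) 0 0 - 1 + u * c) * huc
    ext i j
    fin_cases i <;> fin_cases j <;>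
      simp [coe_up, coe_lo, Matrix.mul_apply, Fin.sum_univ_two]
    · linear_combination huc
    · linear_combination (-1) * h01
    · exact hc
    · linear_combination (-1) * h11
  let φ : SL2 →* SL2 := (MulAut.conj (up u : SL2)).toMonoidHom
  let σ : SL2 →* SL2 := scaleHom a ha
  apply HasSL2Copy.map φ (MulEquiv.injective _)
  apply HasSL2Copy.map σ (scaleHom_injective a ha)
  apply hasSL2Copy_of_signClosure hp
  have hU2 : UnipConj p ((H.comap φ).comap σ) := by
    refine (hU.comap φ (MulEquiv.injective _) (MulEquiv.surjective _) fun b => ⟨b, ?_⟩).comap σ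
      (scaleHom_injective a ha) (fun M => ⟨scaleHom a⁻¹ (inv_ne_zero ha) M, ?_⟩)
      (fun b => ⟨b / a, by rw [scaleHom_up, mul_div_cancel₀ b ha]⟩)
    · simp only [φ, MulEquiv.coe_toMonoidHom, MulAut.conj_apply]
      rw [up_inv, ← up_add, ← up_add, add_comm u b, add_neg_cancel_right]
    · apply Subtype.ext
      ext i j
      fin_cases i <;> fin_cases j <;> simp [σ, coe_scaleHom, ha]
  refine hasSL2Copy_of_normalised ?_ hp
  refine { neg_mem := Or.inr (by rw [negI_mul_self]; exact one_mem _), up_mem := ?_,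
           exists_lo := ?_, conj_unip := ?_ }
  · left
    show φ (σ (up 1)) ∈ H
    simp only [σ, φ, scaleHom_up, mul_one, MulEquiv.coe_toMonoidHom, MulAut.conj_apply]
    rw [up_inv, ← up_add, ← up_add, add_comm u a, add_neg_cancel_right]
    exact hua
  · refine ⟨a * c, mul_ne_zero ha hy10, Or.inl ?_⟩
    show φ (σ (lo (a * c))) ∈ H
    simp only [σ, φ, scaleHom_lo, mul_div_cancel_left₀ c ha, MulEquiv.coe_toMonoidHom,
      MulAut.conj_apply, hyc]
    exact hy
  · intro x hx hxp
    obtain ⟨k, hk, b, hb⟩ := hU2 x (mem_of_mem_signClosure hp hx hxp) hxp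
    exact ⟨k, Or.inl hk, b, hb⟩

/-- **Dickson's lemma**. -/
theorem hasSL2Copy_of_sylow (hp : p ≠ 2) (H : Subgroup SL2) (hH : 1 < Nat.card (Sylow p H)) :
    HasSL2Copy p H := by
  classical
  have := Fintype.ofFinite F
  obtain ⟨P⟩ := (inferInstance : Nonempty (Sylow p H))
  obtain ⟨S, hS⟩ := ((P.2.map H.subtype)).exists_le_sylow
  obtain ⟨g, hg⟩ := exists_sylow_eq_conj_SL p S
  rw [hg] at hS
  -- move to upper unitriangular position
  let φ : SL2 →* SL2 := (MulAut.conj g).toMonoidHom
  apply HasSL2Copy.map φ (MulEquiv.injective _)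
  set H1 := H.comap φ with hH1
  let e : H1 ≃* H :=
    { toFun := fun x => ⟨φ x.1, x.2⟩
      invFun := fun x => ⟨(MulAut.conj g).symm x.1, by
        show φ ((MulAut.conj g).symm x.1) ∈ H
        rw [show φ ((MulAut.conj g).symm x.1) = x.1 from MulEquiv.apply_symm_apply _ _]
        exact x.2⟩
      left_inv := fun x => Subtype.ext (MulEquiv.symm_apply_apply _ _)
      right_inv := fun x => Subtype.ext (MulEquiv.apply_symm_apply _ _)
      map_mul' := fun x y => Subtype.ext (map_mul φ x.1 y.1) }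
  obtain ⟨P1, hP1⟩ : ∃ P1 : Sylow p H1, ∀ x : H1, x ∈ P1 → ∃ a, (x : SL2) = up a := by
    refine ⟨P.comapOfInjective e.toMonoidHom e.injective (fun x _ => e.surjective x), ?_⟩
    intro x hx
    have hxP : e x ∈ (P : Subgroup H) := hx
    have := hS (Subgroup.mem_map_of_mem H.subtype hxP)
    rw [Subgroup.mem_pointwise_smul_iff_inv_smul_mem] at this
    obtain ⟨t, ht⟩ := this
    refine ⟨Multiplicative.toAdd t, ?_⟩
    have h' : (x : SL2) = uSL t := by
      rw [ht]
      show (x : SL2) = (MulAut.conj g)⁻¹ • φ x.1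
      rw [MulAut.smul_def]
      exact (MulEquiv.symm_apply_apply (MulAut.conj g) x.1).symm
    rw [h']
    exact Subtype.ext (coe_uSL t)
  have hH1c : 1 < Nat.card (Sylow p H1) := by
    refine lt_of_lt_of_le hH (Nat.card_le_card_of_injective
      (fun R : Sylow p H => R.comapOfInjective e.toMonoidHom e.injective
        (fun x _ => e.surjective x)) fun R R' h => ?_)
    have := congrArg (fun T : Sylow p H1 => (T : Subgroup H1)) h
    exact Sylow.ext (Subgroup.comap_injective (f := e.toMonoidHom) e.surjective (by simpa using this))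
  have hU : UnipConj p H1 := by
    intro x hx hxp
    have hpg : IsPGroup p (Subgroup.zpowers (⟨x, hx⟩ : H1)) := by
      refine IsPGroup.of_card_dvd_pow (n := 1) ?_
      rw [Nat.card_zpowers, pow_one]
      exact orderOf_dvd_of_pow_eq_one (Subtype.ext (by simpa using hxp))
    obtain ⟨Q, hQ⟩ := hpg.exists_le_sylow
    obtain ⟨k, hk⟩ := MulAction.exists_smul_eq H1 Q P1
    have hmem : k * ⟨x, hx⟩ * k⁻¹ ∈ P1 := by
      rw [← hk]
      show _ ∈ ((k • Q : Sylow p H1) : Subgroup H1)
      rw [Sylow.coe_subgroup_smul, Subgroup.mem_pointwise_smul_iff_inv_smul_mem]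
      simpa [mul_assoc] using hQ (Subgroup.mem_zpowers _)
    obtain ⟨a, ha⟩ := hP1 _ hmem
    exact ⟨k, k.2, a, by simpa using ha⟩
  have hexp : ∀ Q : Sylow p H1, ∀ y : H1, y ∈ Q → (y : SL2) ^ p = 1 := by
    intro Q y hy
    obtain ⟨T, hT⟩ := (Q.2.map H1.subtype).exists_le_sylow
    obtain ⟨g', hg'⟩ := exists_sylow_eq_conj_SL p T
    have := hT (Subgroup.mem_map_of_mem H1.subtype (show y ∈ (Q : Subgroup H1) from hy))
    rw [hg', Subgroup.mem_pointwise_smul_iff_inv_smul_mem] at this
    obtain ⟨t, ht⟩ := this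
    have h1 : ((MulAut.conj g')⁻¹ (y : SL2)) ^ p = 1 := by
      rw [show (MulAut.conj g')⁻¹ (y : SL2) = uSL t from ht.symm, ← map_pow]
      have : t ^ p = 1 := by
        rw [← toAdd_eq_zero, toAdd_pow, nsmul_eq_mul, CharP.cast_eq_zero, zero_mul]
      rw [this, map_one]
    rw [← map_pow] at h1
    exact (MulEquiv.map_eq_one_iff _).1 h1
  have hnt : (P1 : Subgroup H1) ≠ ⊥ := by
    intro hbot
    have huniq : ∀ Q : Sylow p H1, (Q : Subgroup H1) = ⊥ := by
      intro Q
      apply Subgroup.card_eq_one.1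
      rw [Q.card_eq_multiplicity, ← P1.card_eq_multiplicity, hbot, Subgroup.card_bot]
    have : Subsingleton (Sylow p H1) := ⟨fun Q R => Sylow.ext (by rw [huniq Q, huniq R])⟩
    rw [Nat.card_of_subsingleton P1] at hH1c
    omega
  obtain ⟨x, hxP, hx1⟩ := (P1 : Subgroup H1).bot_or_exists_ne_one.resolve_left hnt
  obtain ⟨a, ha⟩ := hP1 x hxP
  have ha0 : a ≠ 0 := by
    rintro rfl
    exact hx1 (Subtype.ext (by rw [ha, up_zero]; rfl))
  obtain ⟨Q, hQ⟩ : ∃ Q : Sylow p H1, Q ≠ P1 := by
    by_contra hall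
    push Not at hall
    have : Subsingleton (Sylow p H1) := ⟨fun Q R => by rw [hall Q, hall R]⟩
    rw [Nat.card_of_subsingleton P1] at hH1c
    omega
  obtain ⟨y, hyQ, hy10⟩ : ∃ y : H1, y ∈ Q ∧ ((y : SL2) : M2) 1 0 ≠ 0 := by
    by_contra hall
    push Not at hall
    apply hQ
    -- everything lies in the upper unitriangular part, a p-group containing P1
    let U : Subgroup H1 := ((uSL (F := F)).range).comap H1.subtype
    have hUp : IsPGroup p U := by
      intro z
      obtain ⟨t, ht⟩ := z.2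
      refine ⟨1, ?_⟩
      apply Subtype.ext
      apply Subtype.ext
      rw [pow_one]
      show (((z : H1) : SL2)) ^ p = 1
      rw [show ((z : H1) : SL2) = uSL t from ht.symm, ← map_pow]
      have : t ^ p = 1 := by
        rw [← toAdd_eq_zero, toAdd_pow, nsmul_eq_mul, CharP.cast_eq_zero, zero_mul]
      rw [this, map_one]
    have hPU : (P1 : Subgroup H1) ≤ U := by
      intro z hz
      obtain ⟨b, hb⟩ := hP1 z hz
      exact ⟨Multiplicative.ofAdd b, by
        show uSL _ = (z : SL2)
        rw [hb]; exact Subtype.ext (coe_uSL _)⟩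
    have hQU : (Q : Subgroup H1) ≤ U := by
      intro z hz
      have h10 := hall z hz
      have htr := trace_of_pow_char (two_ne_zero_char (F := F) hp) (hexp Q z hz)
      rw [Matrix.trace_fin_two] at htr
      have hd := sl2_det (z : SL2)
      rw [h10, mul_zero, sub_zero] at hd
      have h00 : ((z : SL2) : M2) 0 0 = 1 := by
        have : (((z : SL2) : M2) 0 0 - 1) ^ 2 = 0 := by
          linear_combination ((z : SL2) : M2) 0 0 * htr - hd
        exact sub_eq_zero.1 (sq_eq_zero_iff.1 this)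
      exact ⟨Multiplicative.ofAdd (((z : SL2) : M2) 0 1), by
        show uSL _ = (z : SL2)
        conv_rhs => rw [eq_up_of_diag_eq_one h10 h00]
        exact Subtype.ext (coe_uSL _)⟩
    exact Sylow.ext ((Q.3 hUp hQU).symm.trans (P1.3 hUp hPU))
  exact hasSL2Copy_of_elements hp hU ha0 (ha ▸ x.2) y.2 (hexp Q y hyQ) hy10

end Cfsg.Agent.Lib.Dickson
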