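import Cfsg.Agent.Lib.Dickson.Basics
import Cfsg.Agent.Lib.Dickson.Counting

/-!
Centralisers, the Borel subgroup and the class sums for a subgroup of `SL(2,F)` containing `-1`,
`up 1` and some `lo l`, in which every element of order `p` is conjugate into the upper
unitriangular group.
-/

namespace Cfsg.Agent.Lib.Dickson

open Matrix Cfsg.Agent.Lib.Linear
open Cfsg.Agent.Lib.PLocal.SLTwo (up lo up_add lo_add up_zero lo_zero val_mul)

variable {F : Type*} [Field F]

local notation "SL2" => Matrix.SpecialLinearGroup (Fin 2) F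
local notation "M2" => Matrix (Fin 2) (Fin 2) F

theorem commute_of_commute {x y s : SL2} (hx : NonScalar x) (hy : y * x = x * y)
    (hs : s * x = x * s) : y * s = s * y := by
  obtain ⟨a, b, ha⟩ := exists_eq_add_smul_of_commute hx hy
  obtain ⟨c, d, hc⟩ := exists_eq_add_smul_of_commute hx hs
  apply Subtype.ext
  rw [val_mul, val_mul]
  show (y : M2) * (s : M2) = (s : M2) * (y : M2)
  rw [ha, hc]
  simp only [Matrix.add_mul, Matrix.mul_add, smul_mul_assoc, mul_smul_comm, one_mul, mul_one,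
    smul_smul]
  module

theorem trace_conj (h x : SL2) :
    Matrix.trace ((h * x * h⁻¹ : SL2) : M2) = Matrix.trace (x : M2) := by
  rw [Matrix.SpecialLinearGroup.coe_mul, Matrix.trace_mul_comm,
    ← Matrix.SpecialLinearGroup.coe_mul, ← mul_assoc, inv_mul_cancel, one_mul]

theorem trace_sq_of_scalar {g : SL2} (h : g = 1 ∨ g = negI) :
    Matrix.trace (g : M2) ^ 2 = 4 := by
  rcases h with rfl | rfl
  · rw [Matrix.SpecialLinearGroup.coe_one]; simp; norm_num
  · rw [coe_negI]; simp; norm_num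

theorem eq_or_eq_inv_of_conj (h2 : (2 : F) ≠ 0) {h x : SL2} (hne : Matrix.trace (x : M2) ^ 2 ≠ 4)
    (hc : h * x * h⁻¹ * x = x * (h * x * h⁻¹)) : h * x * h⁻¹ = x ∨ h * x * h⁻¹ = x⁻¹ := by
  have hx : NonScalar x := nonScalar_iff.2 fun hh => hne (trace_sq_of_scalar hh)
  obtain ⟨a, b, hab⟩ := exists_eq_add_smul_of_commute hx hc
  have htr := trace_conj h x
  have hd := (h * x * h⁻¹).2
  rw [hab] at htr
  have hd' : (a • (1 : M2) + b • (x : M2)).det = 1 := by rw [← hab]; exact hd
  rw [det_add_smul] at hd'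
  set t := Matrix.trace (x : M2) with ht
  have htr' : 2 * a + b * t = t := by
    rw [Matrix.trace_add, Matrix.trace_smul, Matrix.trace_smul, ← ht] at htr
    simp at htr
    linear_combination htr
  have hb : (b - 1) * (b + 1) * (t ^ 2 - 4) = 0 := by
    linear_combination (-4) * hd' + (2 * a + b * t + t) * htr'
  rcases mul_eq_zero.1 hb with hb | hb
  · rcases mul_eq_zero.1 hb with hb | hb
    · left
      have hb1 : b = 1 := sub_eq_zero.1 hb
      have ha : a = 0 := by
        have : (2 : F) * a = 0 := by rw [hb1] at htr'; linear_combination htr'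
        exact (mul_eq_zero.1 this).resolve_left h2
      apply Subtype.ext
      rw [hab, ha, hb1]
      simp
    · right
      have hb1 : b = -1 := eq_neg_of_add_eq_zero_left hb
      have ha : a = t := by
        have : (2 : F) * (a - t) = 0 := by rw [hb1] at htr'; linear_combination htr'
        exact sub_eq_zero.1 ((mul_eq_zero.1 this).resolve_left h2)
      symm
      apply inv_eq_of_mul_eq_one_right
      apply Subtype.ext
      rw [Matrix.SpecialLinearGroup.coe_mul, hab, ha, hb1, Matrix.SpecialLinearGroup.coe_one,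
        Matrix.mul_add, mul_smul_comm, mul_smul_comm, mul_one, sl2_mul_self, ← ht]
      simp
  · exact absurd (sub_eq_zero.1 hb) hne

section Classes

variable {H : Subgroup (Matrix.SpecialLinearGroup (Fin 2) F)}

/-- The scalar elements of `H`. -/
def scalarSet (H : Subgroup (Matrix.SpecialLinearGroup (Fin 2) F)) : Set H :=
  {g | (g : Matrix.SpecialLinearGroup (Fin 2) F) = 1 ∨
    (g : Matrix.SpecialLinearGroup (Fin 2) F) = negI}

/-- The trace on `H`. -/
def tr (g : H) : F :=
  Matrix.trace ((g : Matrix.SpecialLinearGroup (Fin 2) F) : Matrix (Fin 2) (Fin 2) F)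

/-- The centraliser in `H`. -/
abbrev cen (g : H) : Subgroup H := Subgroup.centralizer {g}

/-- The non-scalar elements conjugate into the centraliser of `g`. -/
def cls (g : H) : Set H := conjClosure ((cen g : Set H) \ scalarSet H)

theorem mem_cen_iff {g y : H} : y ∈ cen g ↔ (y : SL2) * g = g * y := by
  rw [Subgroup.mem_centralizer_singleton_iff]
  exact ⟨fun h => congrArg Subtype.val h, fun h => Subtype.ext h⟩

theorem nonScalar_of_notMem {g : H} (hg : g ∉ scalarSet H) : NonScalar (g : SL2) :=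
  nonScalar_iff.2 hg

theorem notMem_of_tr {g : H} (hg : tr g ^ 2 ≠ 4) : g ∉ scalarSet H :=
  fun h => hg (trace_sq_of_scalar h)

theorem tr_conj (h g : H) : tr (h * g * h⁻¹) = tr g := trace_conj (h : SL2) g

theorem scalar_conj {h g : H} (hg : g ∈ scalarSet H) : h * g * h⁻¹ = g := by
  apply Subtype.ext
  rcases hg with hg | hg
  · simp [hg]
  · simp only [Subgroup.coe_mul, Subgroup.coe_inv, hg]
    rw [← negI_comm, mul_assoc, mul_inv_cancel, mul_one]

theorem conj_notMem {h g : H} (hg : g ∉ scalarSet H) : h * g * h⁻¹ ∉ scalarSet H := fun hh => by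
  have := scalar_conj (h := h⁻¹) hh
  rw [inv_inv, show h⁻¹ * (h * g * h⁻¹) * h = g by simp [mul_assoc]] at this
  exact hg (this ▸ hh)

theorem self_mem_cen (g : H) : g ∈ cen g := mem_cen_iff.2 rfl

theorem cen_eq_of_mem {x s : H} (hx : x ∉ scalarSet H) (hs : s ∈ cen x) (hs' : s ∉ scalarSet H) :
    cen s = cen x := by
  have h1 := mem_cen_iff.1 hs
  ext y
  rw [mem_cen_iff, mem_cen_iff]
  constructor
  · intro hy
    exact commute_of_commute (nonScalar_of_notMem hs') hy h1.symm
  · intro hy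
    exact commute_of_commute (nonScalar_of_notMem hx) hy h1

theorem mem_cen_conj {h g y : H} : y ∈ cen (h * g * h⁻¹) ↔ h⁻¹ * y * h ∈ cen g := by
  simp only [Subgroup.mem_centralizer_singleton_iff]
  constructor
  · intro he
    have := congrArg (fun z => h⁻¹ * z * h) he
    simpa [mul_assoc] using this
  · intro he
    have := congrArg (fun z => h * z * h⁻¹) he
    simpa [mul_assoc] using this

theorem cls_notMem {g y : H} (hy : y ∈ cls g) : y ∉ scalarSet H := by
  obtain ⟨h, s, hs, rfl⟩ := hy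
  exact conj_notMem hs.2

theorem mem_cls_self {g : H} (hg : g ∉ scalarSet H) : g ∈ cls g :=
  subset_conjClosure _ ⟨self_mem_cen g, hg⟩

theorem cls_subset {x y : H} (hx : x ∉ scalarSet H) (hy : y ∈ cls x) : cls y ⊆ cls x := by
  obtain ⟨h, s, ⟨hs, hs'⟩, rfl⟩ := hy
  rintro _ ⟨k, t, ⟨ht, ht'⟩, rfl⟩
  have h1 := mem_cen_conj.1 ht
  rw [cen_eq_of_mem hx hs hs'] at h1
  have h2 := conj_notMem (h := h⁻¹) ht'
  rw [inv_inv] at h2
  exact ⟨k * h, h⁻¹ * t * h, ⟨h1, h2⟩, by simp [mul_assoc]⟩

theorem cls_symm {x y : H} (hx : x ∉ scalarSet H) (hy : y ∈ cls x) : x ∈ cls y := by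
  obtain ⟨h, s, ⟨hs, hs'⟩, rfl⟩ := hy
  refine ⟨h⁻¹, h * x * h⁻¹, ⟨?_, conj_notMem hx⟩, by simp [mul_assoc]⟩
  rw [SetLike.mem_coe, mem_cen_conj, cen_eq_of_mem hx hs hs']
  simpa [mul_assoc] using self_mem_cen x

theorem disjoint_cls {x y : H} (hx : x ∉ scalarSet H) (hy : y ∉ scalarSet H) (h : x ∉ cls y) :
    Disjoint (cls x) (cls y) := by
  rw [Set.disjoint_left]
  intro z hzx hzy
  exact h (cls_subset hy hzy (cls_symm hx hzx))

theorem card_cen_of_mem_cls {x y : H} (hx : x ∉ scalarSet H) (hy : y ∈ cls x) :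
    Nat.card (cen y) = Nat.card (cen x) := by
  obtain ⟨h, s, ⟨hs, hs'⟩, rfl⟩ := hy
  rw [← cen_eq_of_mem hx hs hs']
  refine Nat.card_congr (Equiv.subtypeEquiv (MulAut.conj h⁻¹).toEquiv fun z => ?_)
  rw [mem_cen_conj]
  simp

theorem tr_sq_ne_of_mem {x s : H} (hx : x ∉ scalarSet H) (hs : s ∈ cen x) (hs' : s ∉ scalarSet H)
    (ht : tr x ^ 2 ≠ 4) : tr s ^ 2 ≠ 4 := by
  obtain ⟨a, b, hab⟩ := exists_eq_add_smul_of_commute (nonScalar_of_notMem hx) (mem_cen_iff.1 hs)
  have hd := (s : SL2).2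
  rw [hab, det_add_smul] at hd
  have hb : b ≠ 0 := by
    rintro rfl
    exact hs' (eq_one_or_negI_of_smul (a := a) (by simpa using hab))
  intro h4
  have htr : tr s = 2 * a + b * tr x := by
    unfold tr
    rw [hab, Matrix.trace_add, Matrix.trace_smul, Matrix.trace_smul]
    simp
    ring
  rw [htr] at h4
  have : b ^ 2 * (tr x ^ 2 - 4) = 0 := by
    unfold tr at h4 ⊢
    linear_combination h4 - 4 * hd
  exact ht (sub_eq_zero.1 ((mul_eq_zero.1 this).resolve_left (pow_ne_zero 2 hb)))

theorem cls_tr {x y : H} (hx : x ∉ scalarSet H) (ht : tr x ^ 2 ≠ 4) (hy : y ∈ cls x) :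
    tr y ^ 2 ≠ 4 := by
  obtain ⟨h, s, ⟨hs, hs'⟩, rfl⟩ := hy
  rw [tr_conj]
  exact tr_sq_ne_of_mem hx hs hs' ht

theorem le_normalizer_cen (g : H) : cen g ≤ Subgroup.normalizer (cen g : Set H) :=
  Subgroup.le_normalizer

theorem ncard_scalarSet (h2 : (2 : F) ≠ 0) (hneg : negI ∈ H) : (scalarSet H).ncard = 2 := by
  have : scalarSet H = {1, ⟨negI, hneg⟩} := by
    ext g
    simp only [scalarSet, Set.mem_setOf_eq, Set.mem_insert_iff, Set.mem_singleton_iff,
      Subtype.ext_iff, OneMemClass.coe_one]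
  rw [this, Set.ncard_pair]
  intro h
  have h' := congrArg (fun g : H => ((g : SL2) : M2) 0 0) h
  simp [coe_negI] at h'
  exact h2 (by linear_combination h')

variable [Finite F]

theorem ncard_compl_scalarSet (h2 : (2 : F) ≠ 0) (hneg : negI ∈ H) :
    (scalarSet H)ᶜ.ncard + 2 = Nat.card H := by
  have h1 := ncard_scalarSet h2 hneg
  have h3 := Set.ncard_add_ncard_compl (scalarSet H)
  omega

theorem scalarSet_subset_cen (g : H) : scalarSet H ⊆ (cen g : Set H) := by
  intro z hz
  rw [SetLike.mem_coe, mem_cen_iff]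
  rcases hz with hz | hz
  · simp [hz]
  · rw [hz, negI_comm]

theorem ncard_cls_mul (h2 : (2 : F) ≠ 0) (hneg : negI ∈ H) {x : H} (hx : x ∉ scalarSet H) :
    (cls x).ncard * Nat.card (Subgroup.normalizer (cen x : Set H)) =
      Nat.card H * (Nat.card (cen x) - 2) := by
  rw [cls, ncard_conjClosure _ (Subgroup.normalizer (cen x : Set H)),
    Set.ncard_sdiff (scalarSet_subset_cen x), ncard_scalarSet h2 hneg, ← Nat.card_coe_set_eq]
  · rfl
  · intro k hk s hs
    exact ⟨(Subgroup.mem_normalizer_iff.1 hk s).1 hs.1, conj_notMem hs.2⟩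
  · intro h s hs hhs
    have he : cen (h * s * h⁻¹) = cen x := cen_eq_of_mem hx hhs.1 hhs.2
    rw [Subgroup.mem_normalizer_iff]
    intro y
    have key : h * y * h⁻¹ ∈ cen (h * s * h⁻¹) ↔ y ∈ cen s := by
      rw [mem_cen_conj]; simp [mul_assoc]
    rw [he, cen_eq_of_mem hx hs.1 hs.2] at key
    exact key.symm

theorem card_normalizer_cases (h2 : (2 : F) ≠ 0) {x : H} (hx : tr x ^ 2 ≠ 4) :
    Nat.card (Subgroup.normalizer (cen x : Set H)) = Nat.card (cen x) ∨
      Nat.card (Subgroup.normalizer (cen x : Set H)) = 2 * Nat.card (cen x) := by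
  set N := Subgroup.normalizer (cen x : Set H)
  obtain ⟨m, hm⟩ := Subgroup.card_dvd_of_le (le_normalizer_cen x)
  have hpos : 0 < Nat.card (cen x) := Nat.card_pos
  have hle : Nat.card N ≤ 2 * Nat.card (cen x) := by
    have hcases : ∀ h ∈ N, h ∈ cen x ∨ h * x * h⁻¹ = x⁻¹ := by
      intro h hh
      have h1 := (Subgroup.mem_normalizer_iff.1 hh x).1 (self_mem_cen x)
      rcases eq_or_eq_inv_of_conj h2 (h := (h : SL2)) (x := (x : SL2)) hx
          (mem_cen_iff.1 h1) with e | e
      · left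
        rw [mem_cen_iff]
        exact mul_inv_eq_iff_eq_mul.1 e
      · exact Or.inr (Subtype.ext e)
    have hsub : (N : Set H) ⊆ (cen x : Set H) ∪ {h | h * x * h⁻¹ = x⁻¹} := hcases
    have h2' : ({h | h * x * h⁻¹ = x⁻¹} : Set H).ncard ≤ Nat.card (cen x) := by
      by_cases hne : ({h | h * x * h⁻¹ = x⁻¹} : Set H).Nonempty
      · obtain ⟨h0, hh0⟩ := hne
        simp only [Set.mem_setOf_eq] at hh0
        have : ({h | h * x * h⁻¹ = x⁻¹} : Set H) ⊆ (fun c => h0 * c) '' (cen x : Set H) := by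
          intro h hh
          simp only [Set.mem_setOf_eq] at hh
          refine ⟨h0⁻¹ * h, ?_, by simp⟩
          rw [SetLike.mem_coe, Subgroup.mem_centralizer_singleton_iff]
          have hh1 := mul_inv_eq_iff_eq_mul.1 hh
          have hh2 := mul_inv_eq_iff_eq_mul.1 hh0
          calc h0⁻¹ * h * x = h0⁻¹ * (h * x) := mul_assoc _ _ _
            _ = h0⁻¹ * x⁻¹ * h := by rw [hh1, mul_assoc]
            _ = x * h0⁻¹ * h := by
              congr 1
              rw [eq_comm, eq_inv_mul_iff_mul_eq, ← mul_assoc, hh2]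
              simp
            _ = x * (h0⁻¹ * h) := mul_assoc _ _ _
        refine (Set.ncard_le_ncard this (Set.toFinite _)).trans ?_
        refine (Set.ncard_image_le (Set.toFinite _)).trans ?_
        rw [← Nat.card_coe_set_eq]
        rfl
      · rw [Set.not_nonempty_iff_eq_empty.1 hne, Set.ncard_empty]
        exact Nat.zero_le _
    have := (Set.ncard_le_ncard hsub (Set.toFinite _)).trans (Set.ncard_union_le _ _)
    rw [← Nat.card_coe_set_eq, ← Nat.card_coe_set_eq (cen x : Set H)] at this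
    simp only [SetLike.coe_sort_coe] at this
    omega
  rw [hm] at hle ⊢
  have hm0 : m ≠ 0 := by
    rintro rfl
    rw [mul_zero] at hm
    exact absurd hm Nat.card_pos.ne'
  have : m ≤ 2 := by nlinarith
  rcases (show m = 1 ∨ m = 2 by omega) with rfl | rfl
  · exact Or.inl (mul_one _)
  · exact Or.inr (mul_comm _ _)

end Classes

end Cfsg.Agent.Lib.Dickson
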